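import Cfsg.Agent.H805.PU.Push
import Cfsg.Agent.H752.Mp
import Mathlib
import Cfsg.Agent.H781.Transport
import Cfsg.Agent.S5076
import Cfsg.Agent.S5089
import Cfsg.Agent.S5093
import Cfsg.Agent.Transfer.Residual
import Cfsg.Agent.SporadicA.GolayPerm
import Cfsg.Prelude.Def_Spor_Mathieu
import Cfsg.Agent.FastGrp
import Cfsg.Agent.Prune
set_option linter.all false

section
prune_inst 0x7fffbdffffff3ddfffff7e7fffdddffe3bd4dfffffdffb4bffecebff8fdf039679e5fbad9de078ff1ef7e2be30b87853fbffeeffef6fdc7ffffd5ff45ffbee5ff7ffbd8d71deacb40fbe6ffff3f07f8e7f3fffffffffffffffffffffffffffbeffffffffffff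

-- part: FS/Th/Trans
section
set_option linter.all false
open scoped Cfsg.Agent.FastGrp

/-!
# Transport of the hypothesis (H) along an isomorphism (TR) (helper79, project FS)

`Hyp F`: `F` is saturated at `2`, has trivial core, and its hyperfocal subgroup is everything.
`exists_transport`: an isomorphism `e : S ≃* G` carries `F` to a system `F'` over `⊤ : Subgroup G`; `Hyp` is kept,
realizability comes back, and the maps correspond (`Mp` form).
-/

set_option autoImplicit false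

namespace Cfsg.Agent.FS.Th

open Cfsg Cfsg.FusionSystem Cfsg.Agent.H759 Cfsg.Agent.H752

universe u v

/-- The hypothesis (H). -/
structure Hyp {Ω : Type u} [Group Ω] {S : Subgroup Ω} (F : FusionSystem S) : Prop where
  sat : F.IsSaturated 2
  core : F.core = ⊥
  hyp : F.hyperfocalSubgroup 2 = S

section push

variable {Ω₁ : Type u} {Ω₂ : Type v} [Group Ω₁] [Group Ω₂] {f : Ω₁ →* Ω₂} {hf : Function.Injective f}
  {T₁ : Subgroup Ω₁} {T₂ : Subgroup Ω₂} {X₁ : FusionSystem T₁} {X₂ : FusionSystem T₂}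

theorem hyp_push_iff [Finite T₁] (h : IsPush hf X₁ X₂) : Hyp X₂ ↔ Hyp X₁ := by
  have : Fact (Nat.Prime 2) := ⟨Nat.prime_two⟩
  have h1 : X₂.core = ⊥ ↔ X₁.core = ⊥ := by
    rw [h.core_eq, Subgroup.map_eq_bot_iff_of_injective _ hf]
  have h2 : X₂.hyperfocalSubgroup 2 = T₂ ↔ X₁.hyperfocalSubgroup 2 = T₁ := by
    rw [h.hyperfocal_eq]
    constructor
    · intro h3
      exact (map_inj hf).1 (h3.trans h.carrier)
    · intro h3
      rw [h3]
      exact h.carrier.symm
  exact ⟨fun k => ⟨h.isSaturated_iff.1 k.sat, h1.1 k.core, h2.1 k.hyp⟩,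
    fun k => ⟨h.isSaturated_iff.2 k.sat, h1.2 k.core, h2.2 k.hyp⟩⟩

/-- The maps of a push forward, as functions. -/
theorem mp_push_iff (h : IsPush hf X₁ X₂) {P : Subgroup Ω₁} {a : Ω₁ → Ω₁} {b : Ω₂ → Ω₂}
    (hab : ∀ x ∈ P, b (f x) = f (a x)) : Mp X₂ (P.map f) b ↔ Mp X₁ P a := by
  constructor
  · rintro ⟨φ', hφ', h1⟩
    obtain ⟨φ, hφ, rfl⟩ := h.exists_of_mem hφ'
    refine ⟨φ, hφ, fun x hx => hf ?_⟩
    rw [← hab x hx, ← h1 (f x) ⟨x, hx, rfl⟩]
    exact (cb_apply hf φ ⟨x, hx⟩ _).symm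
  · rintro ⟨φ, hφ, h1⟩
    refine ⟨cb hf φ, (h.hom P φ).2 hφ, ?_⟩
    rintro _ ⟨x, hx, rfl⟩
    rw [hab x hx, ← h1 x hx]
    exact cb_apply hf φ ⟨x, hx⟩ _

end push

/-- **TR.**  Transport along `e : S ≃* G`. -/
theorem exists_transport {Ω : Type u} [Group Ω] {S : Subgroup Ω} [Finite S] (F : FusionSystem S)
    {G : Type v} [Group G] (e : S ≃* G) :
    ∃ F' : FusionSystem (⊤ : Subgroup G), (Hyp F → Hyp F') ∧ (F'.IsRealizable 2 → F.IsRealizable 2) ∧
      ∀ (P : Subgroup G) (a : G → G) (b : Ω → Ω), (∀ x ∈ P, b (e.symm x : S) = (e.symm (a x) : S)) →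
        (Mp F (P.map (S.subtype.comp e.symm.toMonoidHom)) b ↔ Mp F' P a) := by
  let f : G →* Ω := S.subtype.comp e.symm.toMonoidHom
  have hf : Function.Injective f := (Subgroup.subtype_injective S).comp e.symm.injective
  have hS : S = (⊤ : Subgroup G).map f := by
    ext x
    constructor
    · intro hx
      refine ⟨e ⟨x, hx⟩, Subgroup.mem_top _, ?_⟩
      show ((e.symm (e ⟨x, hx⟩) : S) : Ω) = x
      rw [e.symm_apply_apply]
    · rintro ⟨y, -, rfl⟩
      exact (e.symm y).2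
  have : Finite G := Finite.of_equiv _ e.toEquiv
  obtain ⟨F', hF'⟩ := exists_pull' (hf := hf) hS F
  exact ⟨F', (hyp_push_iff hF').1, H776.Co.isRealizable_push hF', fun P a b hab => mp_push_iff hF' hab⟩

end Cfsg.Agent.FS.Th
end

-- part: FS/Real/Pc
section
set_option linter.all false
open scoped Cfsg.Agent.FastGrp

/-!
# Polycyclic presentations of 2-groups with verified tables (helper83, project FS, part C)

`PcD`: a presentation on `n` generators `x 0, …, x (n-1)` with relations `x i * x i = el (rel i i)`,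
`x j * x i = x i * el (rel j i)` (`i < j`), where `el a` is the product of the `x i`, `i` a bit of `a`, in increasing
order, together with packed tables.  `PcD.ok` checks the tables.  `Gen D S x`: the relations hold and `S` is the set of
the `2 ^ n` distinct normal forms.
-/

set_option autoImplicit false

namespace Cfsg.Agent.FS.Real

/-- bounded universal quantifier -/
noncomputable def allB (N : ℕ) (p : ℕ → Bool) : Bool := Nat.rec true (fun k r => p k && r) N

theorem allB_spec {N : ℕ} {p : ℕ → Bool} (h : allB N p = true) {k : ℕ} (hk : k < N) : p k = true := by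
  induction N with
  | zero => omega
  | succ N ih =>
    have h1 : (p N && allB N p) = true := h
    rw [Bool.and_eq_true] at h1
    rcases Nat.lt_succ_iff_lt_or_eq.1 hk with h2 | h2
    · exact ih h1.2 h2
    · rw [h2]
      exact h1.1

/-- bounded existential quantifier -/
noncomputable def anyB (N : ℕ) (p : ℕ → Bool) : Bool := Nat.rec false (fun k r => p k || r) N

theorem anyB_spec {N : ℕ} {p : ℕ → Bool} (h : anyB N p = true) : ∃ k, k < N ∧ p k = true := by
  induction N with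
  | zero => cases h
  | succ N ih =>
    have h1 : (p N || anyB N p) = true := h
    rw [Bool.or_eq_true] at h1
    rcases h1 with h1 | h1
    · exact ⟨N, Nat.lt_succ_self _, h1⟩
    · obtain ⟨k, hk, h2⟩ := ih h1
      exact ⟨k, Nat.lt_succ_of_lt hk, h2⟩

theorem beq_eq {a b : ℕ} (h : Nat.beq a b = true) : a = b := Nat.eq_of_beq_eq_true h

theorem blt_lt {a b : ℕ} (h : Nat.blt a b = true) : a < b := Eq.mp Nat.blt_eq h

theorem nbeq_ne {a b : ℕ} (h : (!Nat.beq a b) = true) : a ≠ b := by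
  rintro rfl
  rw [Nat.beq_refl] at h
  cases h

/-- bit `k` of `a` -/
def tb (a k : ℕ) : Bool := Nat.beq ((a >>> k) % 2) 1

theorem tb_eq (a k : ℕ) : tb a k = a.testBit k := by
  unfold tb
  rw [Nat.testBit_eq_decide_div_mod_eq, Nat.shiftRight_eq_div_pow]
  rcases Nat.mod_two_eq_zero_or_one (a / 2 ^ k) with h | h <;> rw [h] <;> rfl

/-- entry `k` of a packed table with entries of `w` bits -/
def get (w T k : ℕ) : ℕ := (T >>> (w * k)) % 2 ^ w

theorem get_lt (w T k : ℕ) : get w T k < 2 ^ w := Nat.mod_lt _ (Nat.two_pow_pos w)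

section el

variable {G : Type*} [Monoid G]

/-- The product of the `x i`, `i < n` a bit of `a`, in increasing order. -/
noncomputable def el (x : ℕ → G) (n a : ℕ) : G := Nat.rec 1 (fun k r => bif tb a k then r * x k else r) n

theorem el_succ (x : ℕ → G) (n a : ℕ) : el x (n + 1) a = bif tb a n then el x n a * x n else el x n a := rfl

theorem el_congr (x : ℕ → G) {a b : ℕ} : ∀ n, (∀ k, k < n → a.testBit k = b.testBit k) → el x n a = el x n b
  | 0, _ => rfl
  | n + 1, h => by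
    rw [el_succ, el_succ, tb_eq, tb_eq, h n (Nat.lt_succ_self _), el_congr x n fun k hk => h k (Nat.lt_succ_of_lt hk)]

theorem el_nil (x : ℕ → G) : ∀ n, el x n 0 = 1
  | 0 => rfl
  | n + 1 => by rw [el_succ, tb_eq, Nat.zero_testBit, cond_false, el_nil x n]

theorem el_congr_x {x y : ℕ → G} (a : ℕ) : ∀ n, (∀ k, k < n → x k = y k) → el x n a = el y n a
  | 0, _ => rfl
  | n + 1, h => by
    rw [el_succ, el_succ, h n (Nat.lt_succ_self _), el_congr_x a n fun k hk => h k (Nat.lt_succ_of_lt hk)]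

theorem map_el {H : Type*} [Monoid H] (f : G →* H) (x : ℕ → G) (a : ℕ) :
    ∀ n, f (el x n a) = el (fun i => f (x i)) n a
  | 0 => map_one f
  | n + 1 => by
    rw [el_succ, el_succ, ← map_el f x a n]
    cases tb a n
    · rfl
    · exact map_mul f _ _

/-- concatenation of normal forms -/
theorem el_add (x : ℕ → G) {m a w : ℕ} (ha : a < 2 ^ m) (hw : w % 2 ^ m = 0) :
    ∀ n, el x n (a + w) = el x n a * el x n w
  | 0 => (mul_one _).symm
  | n + 1 => by
    obtain ⟨c, rfl⟩ : ∃ c, w = 2 ^ m * c := Nat.dvd_of_mod_eq_zero hw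
    have h1 : ∀ k, (a + 2 ^ m * c).testBit k = if k < m then a.testBit k else c.testBit (k - m) := fun k => by
      rw [Nat.add_comm]
      exact Nat.testBit_two_pow_mul_add c ha k
    have h2 : ∀ k, (2 ^ m * c).testBit k = if k < m then false else c.testBit (k - m) := fun k => by
      have := Nat.testBit_two_pow_mul_add c (Nat.two_pow_pos m) k
      rw [Nat.add_zero, Nat.zero_testBit] at this
      exact this
    rw [el_succ, el_succ, el_succ, tb_eq, tb_eq, tb_eq, h1, h2, el_add x ha hw n]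
    by_cases hn : n < m
    · have h3 : el x n (2 ^ m * c) = 1 := by
        rw [← el_nil x n]
        refine el_congr x n fun k hk => ?_
        rw [h2, if_pos (hk.trans hn), Nat.zero_testBit]
      rw [if_pos hn, if_pos hn, h3, cond_false, mul_one, mul_one]
    · have h3 : a.testBit n = false :=
        Nat.testBit_lt_two_pow (ha.trans_le (Nat.pow_le_pow_right (by norm_num) (by omega)))
      rw [if_neg hn, if_neg hn, h3, cond_false]
      cases c.testBit (n - m)
      · rfl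
      · exact mul_assoc _ _ _

theorem el_two_pow (x : ℕ → G) {k : ℕ} : ∀ n, k < n → el x n (2 ^ k) = x k
  | 0, h => by omega
  | n + 1, h => by
    rw [el_succ, tb_eq, Nat.testBit_two_pow]
    rcases Nat.lt_succ_iff_lt_or_eq.1 h with h1 | h1
    · rw [decide_eq_false h1.ne, cond_false, el_two_pow x n h1]
    · have h2 : el x n (2 ^ k) = 1 := by
        rw [← el_nil x n]
        refine el_congr x n fun j hj => ?_
        rw [Nat.testBit_two_pow, Nat.zero_testBit, decide_eq_false (by omega)]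
      rw [decide_eq_true h1, cond_true, h2, one_mul, h1]

theorem el_add_two_pow (x : ℕ → G) {n k a : ℕ} (hk : k < n) (ha : a < 2 ^ k) :
    el x n (a + 2 ^ k) = el x n a * x k := by
  rw [el_add x ha (Nat.mod_self _), el_two_pow x n hk]

theorem el_mem {G : Type*} [Group G] {x : ℕ → G} {A : Subgroup G} (a : ℕ) :
    ∀ n, (∀ i, i < n → x i ∈ A) → el x n a ∈ A
  | 0, _ => A.one_mem
  | n + 1, h => by
    have h1 := el_mem a n fun i hi => h i (Nat.lt_succ_of_lt hi)
    rw [el_succ]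
    cases tb a n
    · exact h1
    · exact A.mul_mem h1 (h n (Nat.lt_succ_self _))

end el

/-- A presentation with tables. -/
structure PcD where
  /-- number of generators -/
  n : ℕ
  /-- relations -/
  rl : ℕ
  /-- right multiplication by the generators -/
  rt : ℕ
  /-- right multiplication by the inverses of the generators -/
  lt : ℕ
  /-- descent to the centre -/
  nx : ℕ
  /-- the involutions of the centre -/
  zl : List ℕ

namespace PcD

variable (D : PcD)

/-- the order -/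
def N : ℕ := 2 ^ D.n

/-- the right sides of the relations -/
def rel (j i : ℕ) : ℕ := get D.n D.rl (D.n * j + i)

/-- right multiplication by `x i` -/
def R (i a : ℕ) : ℕ := get D.n D.rt (2 ^ D.n * i + a)

/-- right multiplication by `(x i)⁻¹` -/
def L (i a : ℕ) : ℕ := get D.n D.lt (2 ^ D.n * i + a)

/-- multiplication by the first `k` letters of `b` -/
noncomputable def mulA (a b k : ℕ) : ℕ := Nat.rec a (fun k r => bif tb b k then D.R k r else r) k

/-- multiplication -/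
noncomputable def mul (a b : ℕ) : ℕ := D.mulA a b D.n

/-- division by the first `k` letters of `b` -/
noncomputable def divA (b k : ℕ) : ℕ → ℕ :=
  Nat.rec (fun a => a) (fun k r a => bif tb b k then r (D.L k a) else r a) k

/-- division -/
noncomputable def div (a b : ℕ) : ℕ := D.divA b D.n a

/-- conjugation `x i * a * (x i)⁻¹` -/
noncomputable def cjg (i a : ℕ) : ℕ := D.L i (D.mul (2 ^ i) a)

/-- conjugation `s * a * s⁻¹` -/
noncomputable def cj (s a : ℕ) : ℕ := D.div (D.mul s a) s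

/-- one step of the descent -/
noncomputable def nxt (a : ℕ) : ℕ :=
  bif Nat.blt (get 4 D.nx a) D.n then D.div (D.cjg (get 4 D.nx a) a) a
  else bif Nat.beq (get 4 D.nx a) 15 then a else D.mul a a

/-- the descent -/
noncomputable def desc (a k : ℕ) : ℕ := Nat.rec a (fun _ r => D.nxt r) k

/-- check: shape of the relations -/
noncomputable def ok1 : Bool :=
  allB D.n fun j => allB (j + 1) fun i => Nat.beq (D.rel j i % 2 ^ (i + 1)) 0

/-- check: the table, low part -/
noncomputable def ok2 : Bool :=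
  allB D.n fun i => allB (2 ^ i) fun a => Nat.beq (D.R i a) (a + 2 ^ i) && Nat.beq (D.R i (a + 2 ^ i)) (a + D.rel i i)

/-- check: the table, high part -/
noncomputable def ok3 : Bool :=
  allB D.n fun k => allB k fun i => allB (2 ^ k) fun a => Nat.beq (D.R i (a + 2 ^ k)) (D.mul (D.R i a) (D.rel k i))

/-- check: the table of the inverses -/
noncomputable def ok4 : Bool := allB D.n fun i => allB (2 ^ D.n) fun a => Nat.beq (D.R i (D.L i a)) a

/-- check: the descent -/
noncomputable def ok5 : Bool :=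
  (allB (2 ^ D.n) fun a => Nat.beq a 0 || D.zl.any fun z => Nat.beq z (D.desc a D.n)) &&
    D.zl.all fun z => Nat.blt z (2 ^ D.n) && !Nat.beq z 0

/-- all checks -/
noncomputable def ok : Bool := D.ok1 && D.ok2 && D.ok3 && D.ok4 && D.ok5

theorem N_pos : 0 < D.N := Nat.two_pow_pos _

theorem R_lt (i a : ℕ) : D.R i a < D.N := get_lt _ _ _

theorem L_lt (i a : ℕ) : D.L i a < D.N := get_lt _ _ _

theorem two_pow_lt {i : ℕ} (hi : i < D.n) : 2 ^ i < D.N := Nat.pow_lt_pow_right (by norm_num) hi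

theorem mulA_succ (a b k : ℕ) : D.mulA a b (k + 1) = bif tb b k then D.R k (D.mulA a b k) else D.mulA a b k := rfl

theorem divA_succ (b k a : ℕ) : D.divA b (k + 1) a = bif tb b k then D.divA b k (D.L k a) else D.divA b k a := rfl

theorem mulA_lt {a : ℕ} (ha : a < D.N) (b : ℕ) : ∀ k, D.mulA a b k < D.N
  | 0 => ha
  | k + 1 => by
    rw [mulA_succ]
    cases tb b k
    · exact mulA_lt ha b k
    · exact D.R_lt _ _

theorem mul_lt {a : ℕ} (ha : a < D.N) (b : ℕ) : D.mul a b < D.N := D.mulA_lt ha b _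

theorem divA_lt (b : ℕ) : ∀ k {a : ℕ}, a < D.N → D.divA b k a < D.N
  | 0, _, ha => ha
  | k + 1, a, ha => by
    rw [divA_succ]
    cases tb b k
    · exact divA_lt b k ha
    · exact divA_lt b k (D.L_lt _ _)

theorem div_lt {a : ℕ} (ha : a < D.N) (b : ℕ) : D.div a b < D.N := D.divA_lt b _ ha

theorem cjg_lt (i a : ℕ) : D.cjg i a < D.N := D.L_lt _ _

theorem cj_lt {s : ℕ} (hs : s < D.N) (a : ℕ) : D.cj s a < D.N := D.div_lt (D.mul_lt hs _) _

theorem nxt_lt {a : ℕ} (ha : a < D.N) : D.nxt a < D.N := by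
  unfold nxt
  cases Nat.blt (get 4 D.nx a) D.n
  · cases Nat.beq (get 4 D.nx a) 15
    · exact D.mul_lt ha _
    · exact ha
  · exact D.div_lt (D.cjg_lt _ _) _

/-- The checks as propositions. -/
structure Ok : Prop where
  rel_mod : ∀ {i j : ℕ}, i ≤ j → j < D.n → D.rel j i % 2 ^ (i + 1) = 0
  low : ∀ {i a : ℕ}, i < D.n → a < 2 ^ i → D.R i a = a + 2 ^ i
  mid : ∀ {i a : ℕ}, i < D.n → a < 2 ^ i → D.R i (a + 2 ^ i) = a + D.rel i i
  high : ∀ {i k a : ℕ}, i < k → k < D.n → a < 2 ^ k → D.R i (a + 2 ^ k) = D.mul (D.R i a) (D.rel k i)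
  RL : ∀ {i a : ℕ}, i < D.n → a < D.N → D.R i (D.L i a) = a
  desc : ∀ {a : ℕ}, a < D.N → a ≠ 0 → D.desc a D.n ∈ D.zl
  z_lt : ∀ {z : ℕ}, z ∈ D.zl → z < D.N
  z_ne : ∀ {z : ℕ}, z ∈ D.zl → z ≠ 0

theorem ok_of (h1 : D.ok1 = true) (h2 : D.ok2 = true) (h3 : D.ok3 = true) (h4 : D.ok4 = true) (h5 : D.ok5 = true) :
    D.Ok := by
  unfold ok5 at h5
  rw [Bool.and_eq_true, List.all_eq_true] at h5
  refine ⟨fun hi hj => beq_eq (allB_spec (allB_spec h1 hj) (Nat.lt_succ_of_le hi)), fun hi ha => ?_, fun hi ha => ?_,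
    fun hi hk ha => beq_eq (allB_spec (allB_spec (allB_spec h3 hk) hi) ha),
    fun hi ha => beq_eq (allB_spec (allB_spec h4 hi) ha), fun {a} ha h0 => ?_, fun {z} hz => ?_, fun {z} hz => ?_⟩
  · have h := allB_spec (allB_spec h2 hi) ha
    rw [Bool.and_eq_true] at h
    exact beq_eq h.1
  · have h := allB_spec (allB_spec h2 hi) ha
    rw [Bool.and_eq_true] at h
    exact beq_eq h.2
  · have h := allB_spec h5.1 ha
    rw [Bool.or_eq_true, List.any_eq_true] at h
    rcases h with h | ⟨z, hz, h⟩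
    · exact absurd (beq_eq h) h0
    · rw [← beq_eq h]
      exact hz
  · have h := h5.2 z hz
    rw [Bool.and_eq_true] at h
    exact blt_lt h.1
  · have h := h5.2 z hz
    rw [Bool.and_eq_true] at h
    exact nbeq_ne h.2

theorem ok_spec (h : D.ok = true) : D.Ok := by
  unfold ok at h
  simp only [Bool.and_eq_true] at h
  exact D.ok_of h.1.1.1.1 h.1.1.1.2 h.1.1.2 h.1.2 h.2

variable {D}

theorem Ok.mulA_divA (h : D.Ok) (b : ℕ) : ∀ k, k ≤ D.n → ∀ {a : ℕ}, a < D.N → D.mulA (D.divA b k a) b k = a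
  | 0, _, _, _ => rfl
  | k + 1, hk, a, ha => by
    rw [divA_succ, mulA_succ]
    cases tb b k
    · exact h.mulA_divA b k (by omega) ha
    · rw [cond_true, cond_true, h.mulA_divA b k (by omega) (D.L_lt _ _), h.RL hk ha]

theorem Ok.mul_div (h : D.Ok) {a : ℕ} (ha : a < D.N) (b : ℕ) : D.mul (D.div a b) b = a := h.mulA_divA b _ le_rfl ha

theorem Ok.zero_mulA (h : D.Ok) (b : ℕ) : ∀ k, k ≤ D.n → D.mulA 0 b k = b % 2 ^ k
  | 0, _ => by rw [pow_zero, Nat.mod_one]; rfl
  | k + 1, hk => by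
    rw [mulA_succ, h.zero_mulA b k (by omega), Nat.mod_pow_succ, tb_eq, Nat.testBit_eq_decide_div_mod_eq]
    rcases Nat.mod_two_eq_zero_or_one (b / 2 ^ k) with h1 | h1
    · rw [h1]
      rfl
    · rw [h1, decide_eq_true rfl, cond_true, h.low hk (Nat.mod_lt _ (Nat.two_pow_pos k)), mul_one]

theorem Ok.zero_mul (h : D.Ok) {b : ℕ} (hb : b < D.N) : D.mul 0 b = b := by
  unfold mul
  rw [h.zero_mulA b _ le_rfl]
  exact Nat.mod_eq_of_lt hb

end PcD

section sound

variable {G : Type*} [Group G] {D : PcD} {x : ℕ → G}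

/-- The relations. -/
structure Rel (D : PcD) (x : ℕ → G) : Prop where
  sq : ∀ i, i < D.n → x i * x i = el x D.n (D.rel i i)
  cj : ∀ i j, i < j → j < D.n → x j * x i = x i * el x D.n (D.rel j i)

theorem mulA_sound {i : ℕ} (h : ∀ l, i ≤ l → l < D.n → ∀ r, r < D.N → el x D.n r * x l = el x D.n (D.R l r))
    {r w : ℕ} (hr : r < D.N) (hw : w % 2 ^ i = 0) :
    ∀ k, k ≤ D.n → el x D.n r * el x k w = el x D.n (D.mulA r w k)
  | 0, _ => mul_one _
  | k + 1, hk => by
    have ih := mulA_sound h hr hw k (by omega)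
    rw [el_succ, PcD.mulA_succ]
    cases hb : tb w k
    · exact ih
    · have hik : i ≤ k := by
        by_contra hik
        have h1 := Nat.testBit_mod_two_pow w i k
        rw [hw, Nat.zero_testBit, ← tb_eq, hb, decide_eq_true (show k < i by omega)] at h1
        cases h1
      rw [cond_true, cond_true, ← mul_assoc, ih, h k hik hk _ (D.mulA_lt hr _ _)]

theorem Rel.R_aux (hD : D.Ok) (H : Rel D x) :
    ∀ m, m ≤ D.n → ∀ l, D.n - m ≤ l → l < D.n → ∀ r, r < D.N → el x D.n r * x l = el x D.n (D.R l r)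
  | 0, _, l, h1, h2, _, _ => by omega
  | m + 1, hm, l, h1, h2, r, hr => by
    have ih := H.R_aux hD m (by omega)
    rcases Nat.lt_or_ge l (D.n - m) with h3 | h3
    swap
    · exact ih l h3 h2 r hr
    have ih' : ∀ l', l + 1 ≤ l' → l' < D.n → ∀ r, r < D.N → el x D.n r * x l' = el x D.n (D.R l' r) :=
      fun l' h4 h5 => ih l' (by omega) h5
    have key : ∀ k, l + 1 + k ≤ D.n → ∀ a, a < 2 ^ (l + 1 + k) → el x D.n a * x l = el x D.n (D.R l a) := by
      intro k
      induction k with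
      | zero =>
        intro _ a ha
        rcases Nat.lt_or_ge a (2 ^ l) with h4 | h4
        · rw [hD.low h2 h4, el_add_two_pow x h2 h4]
        · obtain ⟨b, rfl⟩ : ∃ b, a = b + 2 ^ l := ⟨a - 2 ^ l, by omega⟩
          have hb : b < 2 ^ l := by
            rw [Nat.add_zero, pow_succ] at ha
            omega
          have hb' : b < 2 ^ (l + 1) := by
            rw [pow_succ]
            omega
          rw [hD.mid h2 hb, el_add_two_pow x h2 hb, mul_assoc, H.sq l h2, el_add x hb' (hD.rel_mod le_rfl h2)]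
      | succ k ihk =>
        intro hk a ha
        rcases Nat.lt_or_ge a (2 ^ (l + 1 + k)) with h4 | h4
        · exact ihk (by omega) a h4
        · obtain ⟨b, rfl⟩ : ∃ b, a = b + 2 ^ (l + 1 + k) := ⟨a - 2 ^ (l + 1 + k), by omega⟩
          have hb : b < 2 ^ (l + 1 + k) := by
            rw [← Nat.add_assoc, pow_succ] at ha
            omega
          have hk' : l + 1 + k < D.n := by omega
          rw [hD.high (by omega) hk' hb, el_add_two_pow x hk' hb, mul_assoc, H.cj l _ (by omega) hk', ← mul_assoc,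
            ihk (by omega) b hb]
          exact mulA_sound ih' (D.R_lt _ _) (hD.rel_mod (by omega) hk') _ le_rfl
    refine key (D.n - (l + 1)) (by omega) r ?_
    rw [show l + 1 + (D.n - (l + 1)) = D.n by omega]
    exact hr

theorem Rel.R_sound (hD : D.Ok) (H : Rel D x) {i a : ℕ} (hi : i < D.n) (ha : a < D.N) :
    el x D.n a * x i = el x D.n (D.R i a) := H.R_aux hD D.n le_rfl i (by omega) hi a ha

theorem Rel.mul_sound (hD : D.Ok) (H : Rel D x) {a : ℕ} (ha : a < D.N) (b : ℕ) :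
    el x D.n a * el x D.n b = el x D.n (D.mul a b) :=
  mulA_sound (i := 0) (fun _ _ hl _ hr => H.R_sound hD hl hr) ha (Nat.mod_one _) _ le_rfl

theorem Rel.L_sound (hD : D.Ok) (H : Rel D x) {i a : ℕ} (hi : i < D.n) (ha : a < D.N) :
    el x D.n a * (x i)⁻¹ = el x D.n (D.L i a) := by
  rw [mul_inv_eq_iff_eq_mul, H.R_sound hD hi (D.L_lt _ _), hD.RL hi ha]

theorem Rel.div_sound (hD : D.Ok) (H : Rel D x) {a : ℕ} (ha : a < D.N) (b : ℕ) :
    el x D.n a * (el x D.n b)⁻¹ = el x D.n (D.div a b) := by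
  rw [mul_inv_eq_iff_eq_mul, H.mul_sound hD (D.div_lt ha _), hD.mul_div ha]

theorem Rel.cjg_sound (hD : D.Ok) (H : Rel D x) {i : ℕ} (hi : i < D.n) (a : ℕ) :
    x i * el x D.n a * (x i)⁻¹ = el x D.n (D.cjg i a) := by
  unfold PcD.cjg
  rw [← H.L_sound hD hi (D.mul_lt (D.two_pow_lt hi) _), ← H.mul_sound hD (D.two_pow_lt hi), el_two_pow x _ hi]

theorem Rel.cj_sound (hD : D.Ok) (H : Rel D x) {s : ℕ} (hs : s < D.N) (a : ℕ) :
    el x D.n s * el x D.n a * (el x D.n s)⁻¹ = el x D.n (D.cj s a) := by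
  unfold PcD.cj
  rw [← H.div_sound hD (D.mul_lt hs _), ← H.mul_sound hD hs]

/-- **Descent**: a subgroup normalized by the generators which contains a non-trivial normal form contains one of the
listed central involutions. -/
theorem Rel.descent (hD : D.Ok) (H : Rel D x) {A : Subgroup G}
    (hA : ∀ i, i < D.n → ∀ a, a < D.N → el x D.n a ∈ A → x i * el x D.n a * (x i)⁻¹ ∈ A) {a : ℕ} (ha : a < D.N)
    (h0 : a ≠ 0) (h : el x D.n a ∈ A) : ∃ z ∈ D.zl, el x D.n z ∈ A := by
  have key : ∀ k, D.desc a k < D.N ∧ el x D.n (D.desc a k) ∈ A := by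
    intro k
    induction k with
    | zero => exact ⟨ha, h⟩
    | succ k ih =>
      obtain ⟨h1, h2⟩ := ih
      have h3 : D.desc a (k + 1) = D.nxt (D.desc a k) := rfl
      rw [h3]
      refine ⟨D.nxt_lt h1, ?_⟩
      unfold PcD.nxt
      cases hc : Nat.blt (get 4 D.nx (D.desc a k)) D.n
      · cases Nat.beq (get 4 D.nx (D.desc a k)) 15
        · rw [cond_false, cond_false, ← H.mul_sound hD h1]
          exact A.mul_mem h2 h2
        · exact h2
      · have hc' := blt_lt hc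
        rw [cond_true, ← H.div_sound hD (D.cjg_lt _ _), ← H.cjg_sound hD hc']
        exact A.mul_mem (hA _ hc' _ h1 h2) (A.inv_mem h2)
  exact ⟨_, hD.desc ha h0, (key _).2⟩

/-- The set of the normal forms. -/
def Rel.sub (hD : D.Ok) (H : Rel D x) : Subgroup G where
  carrier := {g | ∃ a, a < D.N ∧ el x D.n a = g}
  one_mem' := ⟨0, D.N_pos, el_nil x _⟩
  mul_mem' := by
    rintro _ _ ⟨a, ha, rfl⟩ ⟨b, -, rfl⟩
    exact ⟨_, D.mul_lt ha b, (H.mul_sound hD ha b).symm⟩
  inv_mem' := by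
    rintro _ ⟨a, -, rfl⟩
    refine ⟨_, D.div_lt D.N_pos a, ?_⟩
    rw [← H.div_sound hD D.N_pos, el_nil, one_mul]

/-- `S` is the group of order `2 ^ n` with the presentation `D`, on the generators `x`. -/
structure Gen (D : PcD) (S : Subgroup G) (x : ℕ → G) : Prop where
  ok : D.Ok
  rel : Rel D x
  ne : ∀ z ∈ D.zl, el x D.n z ≠ 1
  mem : ∀ g, g ∈ S ↔ ∃ a, a < D.N ∧ el x D.n a = g

theorem Rel.gen (hD : D.Ok) (H : Rel D x) (hne : ∀ z ∈ D.zl, el x D.n z ≠ 1) : Gen D (H.sub hD) x :=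
  ⟨hD, H, hne, fun _ => Iff.rfl⟩

namespace Gen

variable {S : Subgroup G} (H : Gen D S x)
include H

theorem el_mem {a : ℕ} (ha : a < D.N) : el x D.n a ∈ S := (H.mem _).2 ⟨a, ha, rfl⟩

theorem x_mem {i : ℕ} (hi : i < D.n) : x i ∈ S := by
  rw [← el_two_pow x _ hi]
  exact H.el_mem (D.two_pow_lt hi)

theorem el_mem' (a : ℕ) : el x D.n a ∈ S := Real.el_mem a _ fun _ hi => H.x_mem hi

theorem le_of {A : Subgroup G} (h : ∀ i, i < D.n → x i ∈ A) : S ≤ A := by
  intro g hg
  obtain ⟨a, -, rfl⟩ := (H.mem g).1 hg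
  exact Real.el_mem a _ h

theorem mul {a : ℕ} (ha : a < D.N) (b : ℕ) : el x D.n a * el x D.n b = el x D.n (D.mul a b) :=
  H.rel.mul_sound H.ok ha b

theorem div {a : ℕ} (ha : a < D.N) (b : ℕ) : el x D.n a * (el x D.n b)⁻¹ = el x D.n (D.div a b) :=
  H.rel.div_sound H.ok ha b

theorem cj {s : ℕ} (hs : s < D.N) (a : ℕ) : el x D.n s * el x D.n a * (el x D.n s)⁻¹ = el x D.n (D.cj s a) :=
  H.rel.cj_sound H.ok hs a

theorem eq_zero {a : ℕ} (ha : a < D.N) (h : el x D.n a = 1) : a = 0 := by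
  by_contra h0
  obtain ⟨z, hz, h1⟩ := H.rel.descent H.ok (A := ⊥) (fun i _ b _ hb => by
    rw [Subgroup.mem_bot] at hb ⊢
    rw [hb, mul_one, mul_inv_cancel]) ha h0 (Subgroup.mem_bot.2 h)
  exact H.ne z hz (Subgroup.mem_bot.1 h1)

theorem inj {a b : ℕ} (ha : a < D.N) (hb : b < D.N) (h : el x D.n a = el x D.n b) : a = b := by
  have h1 : D.div a b = 0 := H.eq_zero (D.div_lt ha b) (by rw [← H.div ha, h, mul_inv_cancel])
  rw [← H.ok.mul_div ha b, h1, H.ok.zero_mul hb]

/-- the enumeration -/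
noncomputable def enum : Fin D.N ≃ S :=
  Equiv.ofBijective (fun a => ⟨el x D.n a, H.el_mem a.2⟩) ⟨fun a b h => Fin.ext (H.inj a.2 b.2 (congrArg Subtype.val h)), by
    rintro ⟨g, hg⟩
    obtain ⟨a, ha, rfl⟩ := (H.mem g).1 hg
    exact ⟨⟨a, ha⟩, rfl⟩⟩

theorem card : Nat.card S = 2 ^ D.n := by
  rw [← Nat.card_congr H.enum, Nat.card_eq_fintype_card, Fintype.card_fin]
  rfl

theorem finite : Finite S := Finite.of_equiv _ H.enum

theorem isPGroup : IsPGroup 2 S := IsPGroup.of_card H.card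

/-- a normal subgroup of `S` contains a listed involution -/
theorem exists_z {A : Subgroup G} (hA : A ≤ S) (hn : ∀ s ∈ S, ∀ a ∈ A, s * a * s⁻¹ ∈ A) (h0 : A ≠ ⊥) :
    ∃ z ∈ D.zl, el x D.n z ∈ A := by
  obtain ⟨⟨g, hg⟩, h1⟩ := (Subgroup.ne_bot_iff_exists_ne_one.1 h0)
  obtain ⟨a, ha, rfl⟩ := (H.mem g).1 (hA hg)
  refine H.rel.descent H.ok (fun i hi b _ hb => hn _ (H.x_mem hi) _ hb) ha ?_ hg
  rintro rfl
  exact h1 (Subtype.ext (el_nil x _))

/-- the central involutions are listed -/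
theorem central {t : G} (ht : t ∈ S) (h1 : t ≠ 1) (h2 : t * t = 1) (hc : ∀ s ∈ S, s * t = t * s) :
    ∃ z ∈ D.zl, el x D.n z = t := by
  have hz : ∀ a ∈ Subgroup.zpowers t, a = 1 ∨ a = t := by
    intro a ha
    have h3 : orderOf t = 2 := orderOf_eq_prime (by rw [pow_two, h2]) h1
    have h4 : IsOfFinOrder t := by
      rw [← orderOf_pos_iff, h3]
      norm_num
    obtain ⟨k, rfl⟩ := (h4.mem_powers_iff_mem_zpowers).2 ha
    show t ^ k = 1 ∨ t ^ k = t
    rw [← pow_mod_orderOf, h3]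
    rcases Nat.mod_two_eq_zero_or_one k with h5 | h5 <;> rw [h5]
    · exact Or.inl (pow_zero _)
    · exact Or.inr (pow_one _)
  obtain ⟨z, hzl, h3⟩ := H.exists_z (A := Subgroup.zpowers t) ((Subgroup.zpowers_le).2 ht) (fun s hs a ha => by
    rcases hz a ha with rfl | rfl
    · rw [mul_one, mul_inv_cancel]
      exact Subgroup.one_mem _
    · rw [hc s hs, mul_inv_cancel_right]
      exact ha) (by
    rw [Ne, Subgroup.zpowers_eq_bot]
    exact h1)
  exact ⟨z, hzl, (hz _ h3).resolve_left (H.ne z hzl)⟩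

/-- The isomorphism between two groups with the same presentation. -/
theorem exists_equiv {G' : Type*} [Group G'] {S' : Subgroup G'} {y : ℕ → G'} (H' : Gen D S' y) :
    ∃ e : S ≃* S', ∀ a, ((e ⟨el x D.n a, H.el_mem' a⟩ : S') : G') = el y D.n a := by
  have h1 : ∀ (a : ℕ) (ha : a < D.N), (H.enum.symm.trans H'.enum) ⟨el x D.n a, H.el_mem ha⟩ =
      ⟨el y D.n a, H'.el_mem ha⟩ := by
    intro a ha
    have h2 : (⟨el x D.n a, H.el_mem ha⟩ : S) = H.enum ⟨a, ha⟩ := rfl
    rw [h2, Equiv.trans_apply, Equiv.symm_apply_apply]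
    rfl
  refine ⟨{ H.enum.symm.trans H'.enum with map_mul' := ?_ }, fun a => ?_⟩
  · rintro ⟨g, hg⟩ ⟨k, hk⟩
    obtain ⟨a, ha, rfl⟩ := (H.mem g).1 hg
    obtain ⟨b, hb, rfl⟩ := (H.mem k).1 hk
    have h2 : (⟨el x D.n a, hg⟩ * ⟨el x D.n b, hk⟩ : S) = ⟨el x D.n (D.mul a b), H.el_mem (D.mul_lt ha b)⟩ :=
      Subtype.ext (H.mul ha b)
    show (H.enum.symm.trans H'.enum) _ = (H.enum.symm.trans H'.enum) _ * (H.enum.symm.trans H'.enum) _
    rw [h2, h1 _ (D.mul_lt ha b), h1 a ha, h1 b hb]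
    exact Subtype.ext (H'.mul ha b).symm
  · have h2 : (⟨el x D.n a, H.el_mem' a⟩ : S) = ⟨el x D.n (D.mul 0 a), H.el_mem (D.mul_lt D.N_pos a)⟩ :=
      Subtype.ext (show el x D.n a = el x D.n (D.mul 0 a) by rw [← H.mul D.N_pos, el_nil, one_mul])
    show (((H.enum.symm.trans H'.enum) _ : S') : G') = _
    rw [h2, h1 _ (D.mul_lt D.N_pos a)]
    show el y D.n (D.mul 0 a) = _
    rw [← H'.mul D.N_pos, el_nil, one_mul]

/-- The Sylow subgroup. -/
theorem exists_sylow [Finite G] {m : ℕ} (hm : Nat.card G = 2 ^ D.n * m) (ho : ¬ 2 ∣ m) :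
    ∃ T : Sylow 2 G, (T : Subgroup G) = S := by
  have : Fact (Nat.Prime 2) := ⟨Nat.prime_two⟩
  have h1 := S.card_mul_index
  rw [H.card, hm] at h1
  have h2 : S.index = m := Nat.eq_of_mul_eq_mul_left (Nat.two_pow_pos _) h1
  exact ⟨H.isPGroup.toSylow (by rw [h2]; exact ho), rfl⟩

end Gen

/-! ### change of the presentation -/

/-- the index of a normal form in new generators -/
noncomputable def PcD.img (D : PcD) (w : ℕ → ℕ) (n a : ℕ) : ℕ :=
  Nat.rec 0 (fun k r => bif tb a k then D.mul r (w k) else r) n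

theorem PcD.img_succ (D : PcD) (w : ℕ → ℕ) (n a : ℕ) :
    D.img w (n + 1) a = bif tb a n then D.mul (D.img w n a) (w n) else D.img w n a := rfl

theorem PcD.img_lt (D : PcD) (w : ℕ → ℕ) (a : ℕ) : ∀ n, D.img w n a < D.N
  | 0 => D.N_pos
  | n + 1 => by
    rw [PcD.img_succ]
    cases tb a n
    · exact D.img_lt w a n
    · exact D.mul_lt (D.img_lt w a n) _

theorem Gen.el_img {S : Subgroup G} (H : Gen D S x) (w : ℕ → ℕ) (a : ℕ) :
    ∀ n, el (fun i => el x D.n (w i)) n a = el x D.n (D.img w n a)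
  | 0 => (el_nil x _).symm
  | n + 1 => by
    rw [el_succ, PcD.img_succ, H.el_img w a n]
    cases tb a n
    · rfl
    · exact H.mul (D.img_lt w a n) _

/-- check for a change of the presentation; `W` packs the new generators -/
noncomputable def PcD.chg (D E : PcD) (W : ℕ) : Bool :=
  Nat.beq E.n D.n &&
  (allB E.n fun i => Nat.beq (D.mul (get D.n W i) (get D.n W i)) (D.img (get D.n W) E.n (E.rel i i))) &&
  (allB E.n fun j => allB j fun i => Nat.beq (D.mul (get D.n W j) (get D.n W i))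
    (D.mul (get D.n W i) (D.img (get D.n W) E.n (E.rel j i)))) &&
  E.zl.all fun z => !Nat.beq (D.img (get D.n W) E.n z) 0

theorem Gen.change {S : Subgroup G} (H : Gen D S x) {E : PcD} (hE : E.Ok) {W : ℕ} (h : D.chg E W = true) :
    Gen E S fun i => el x D.n (get D.n W i) := by
  unfold PcD.chg at h
  simp only [Bool.and_eq_true, List.all_eq_true] at h
  obtain ⟨⟨⟨h1, h2⟩, h3⟩, h4⟩ := h
  have hR : Rel E fun i => el x D.n (get D.n W i) := by
    refine ⟨fun i hi => ?_, fun i j hij hj => ?_⟩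
    · rw [H.el_img, H.mul (get_lt _ _ _), beq_eq (allB_spec h2 hi)]
    · rw [H.el_img, H.mul (get_lt _ _ _), H.mul (get_lt _ _ _), beq_eq (allB_spec (allB_spec h3 hj) hij)]
  have hG := hR.gen hE fun z hz h5 => by
    rw [H.el_img] at h5
    exact nbeq_ne (h4 z hz) (H.eq_zero (D.img_lt _ _ _) h5)
  have h5 : hR.sub hE = S := by
    have := H.finite
    refine Subgroup.eq_of_le_of_card_ge (hG.le_of fun i _ => H.el_mem' _) ?_
    rw [hG.card, H.card, beq_eq h1]
  rw [← h5]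
  exact hG

end sound

end Cfsg.Agent.FS.Real
end

-- part: FS/Real/Hyp
section
set_option linter.all false
open scoped Cfsg.Agent.FastGrp

/-!
# Realisations, twisting, the pigeonhole glue (helper83, project FS, part C)

* `Rz D G x`: `x` generates a Sylow 2-subgroup `T` of the finite group `G` with the presentation `D`, and `F_T(G)` has (H).
* `Tw F F'`: the two systems over `⊤` differ by an automorphism.
* `Models D k`: over every group with the presentation `D` there are `k` realizable systems with (H), no two twisted.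
* `Models.realizable`: if the systems with (H) have at most `k` types, all of them are realizable.
-/

set_option autoImplicit false

namespace Cfsg.Agent.FS.Real

open Cfsg Cfsg.FusionSystem Cfsg.Agent.H752 Cfsg.Agent.H759 Cfsg.Agent.FS.Th

universe u

section tw

variable {A : Type u} [Group A]

/-- The two systems differ by an automorphism. -/
def Tw (F F' : FusionSystem (⊤ : Subgroup A)) : Prop :=
  ∃ θ : MulAut A, ∀ (P : Subgroup A) (a b : A → A), (∀ x ∈ P, b (θ x) = θ (a x)) →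
    (Mp F' (P.map θ.toMonoidHom) b ↔ Mp F P a)

/-- The maps of `F` are those induced by `G` along `f`. -/
def Ind (F : FusionSystem (⊤ : Subgroup A)) {G : Type*} [Group G] (f : A →* G) : Prop :=
  ∀ (P : Subgroup A) (a : A → A), Mp F P a ↔ ∃ g : G, ∀ x ∈ P, f (a x) = g * f x * g⁻¹

theorem Tw.symm {F F' : FusionSystem (⊤ : Subgroup A)} (h : Tw F F') : Tw F' F := by
  obtain ⟨θ, h⟩ := h
  refine ⟨θ⁻¹, fun P a b hab => ?_⟩
  have hP : (P.map (θ⁻¹ : MulAut A).toMonoidHom).map θ.toMonoidHom = P := by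
    rw [Subgroup.map_map]
    have : θ.toMonoidHom.comp (θ⁻¹ : MulAut A).toMonoidHom = MonoidHom.id _ := by
      ext x
      show θ (θ⁻¹ x) = x
      exact MulAut.apply_inv_self _ _ _
    rw [this, Subgroup.map_id]
  have h1 := h (P.map (θ⁻¹ : MulAut A).toMonoidHom) b a (by
    rintro _ ⟨x, hx, rfl⟩
    show a (θ (θ⁻¹ x)) = θ (b (θ⁻¹ x))
    rw [hab x hx, MulAut.apply_inv_self, MulAut.apply_inv_self])
  rw [hP] at h1
  exact h1.symm

theorem Tw.refl (F : FusionSystem (⊤ : Subgroup A)) : Tw F F := by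
  refine ⟨1, fun P a b hab => ?_⟩
  have hP : P.map (1 : MulAut A).toMonoidHom = P := Subgroup.map_id P
  rw [hP]
  exact ⟨fun h => h.congr fun x hx => (hab x hx).symm, fun h => h.congr fun x hx => hab x hx⟩

theorem Tw.trans {F F' F'' : FusionSystem (⊤ : Subgroup A)} (h : Tw F F') (h' : Tw F' F'') : Tw F F'' := by
  obtain ⟨θ, h⟩ := h
  obtain ⟨η, h'⟩ := h'
  refine ⟨η * θ, fun P a b hab => ?_⟩
  have hP : P.map (η * θ : MulAut A).toMonoidHom = (P.map θ.toMonoidHom).map η.toMonoidHom := by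
    rw [Subgroup.map_map]
    rfl
  rw [hP, h' _ (fun y => θ (a (θ⁻¹ y))) b (by
    rintro _ ⟨x, hx, rfl⟩
    show b (η (θ x)) = η (θ (a (θ⁻¹ (θ x))))
    rw [MulAut.inv_apply_self]
    exact hab x hx)]
  refine h P a _ fun x _ => ?_
  show θ (a (θ⁻¹ (θ x))) = _
  rw [MulAut.inv_apply_self]

theorem Tw.ind {F F' : FusionSystem (⊤ : Subgroup A)} (h : Tw F F') {G : Type*} [Group G] {f : A →* G}
    (hf : Ind F' f) : ∃ θ : MulAut A, Ind F (f.comp θ.toMonoidHom) := by
  obtain ⟨θ, h⟩ := h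
  refine ⟨θ, fun P a => ?_⟩
  rw [← h P a (fun y => θ (a (θ⁻¹ y))) (fun x _ => by
    show θ (a (θ⁻¹ (θ x))) = _
    rw [MulAut.inv_apply_self]), hf]
  refine exists_congr fun g => ⟨fun k x hx => ?_, ?_⟩
  · have h1 := k (θ x) ⟨x, hx, rfl⟩
    rw [MulAut.inv_apply_self] at h1
    exact h1
  · rintro k _ ⟨x, hx, rfl⟩
    show f (θ (a (θ⁻¹ (θ x)))) = _
    rw [MulAut.inv_apply_self]
    exact k x hx

theorem Ind.isRealizable {F : FusionSystem (⊤ : Subgroup A)} {G : Type*} [Group G] [Finite G] {f : A →* G}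
    (h : Ind F f) (hf : Function.Injective f) (T : Sylow 2 G) (hT : (T : Subgroup G) = f.range) :
    F.IsRealizable 2 := by
  refine H781.isRealizable_of_isRealizedBy (ι := f.comp (Subgroup.subtype ⊤))
    ⟨hf.comp (Subgroup.subtype_injective _), fun P _ φ _ => ?_⟩ T ?_
  · have h1 := h P (ex φ)
    constructor
    · intro hφ
      obtain ⟨g, hg⟩ := h1.1 (mp_ex hφ)
      refine ⟨g, fun x => ?_⟩
      have h2 := hg x x.2
      rw [ex_coe] at h2
      exact h2
    · rintro ⟨g, hg⟩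
      refine (h1.2 ⟨g, fun x hx => ?_⟩).mem_hom fun x hx => (ex_apply _ hx).symm
      rw [ex_apply _ hx]
      exact hg ⟨x, hx⟩
  · rw [hT]
    ext y
    exact ⟨fun ⟨x, hx⟩ => ⟨⟨x, Subgroup.mem_top x⟩, hx⟩, fun ⟨x, hx⟩ => ⟨x, hx⟩⟩

theorem ind_of_isRealizable {F : FusionSystem (⊤ : Subgroup A)} (h : F.IsRealizable 2) :
    ∃ (G : Type u) (_ : Group G) (_ : Finite G) (f : A →* G) (T : Sylow 2 G),
      Ind F f ∧ Function.Injective f ∧ (T : Subgroup G) = f.range := by
  obtain ⟨G, _, _, ι, ⟨hι, hm⟩, T, hT⟩ := h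
  refine ⟨G, inferInstance, inferInstance, ι.comp (Subgroup.topEquiv (G := A)).symm.toMonoidHom, T, fun P a => ⟨?_, ?_⟩,
    fun x y hxy => congrArg Subtype.val (@hι ⟨x, Subgroup.mem_top x⟩ ⟨y, Subgroup.mem_top y⟩ hxy), ?_⟩
  · rintro ⟨φ, hφ, h1⟩
    obtain ⟨g, hg⟩ := (hm P le_top φ fun _ => Subgroup.mem_top _).1 hφ
    refine ⟨g, fun x hx => ?_⟩
    rw [← h1 x hx]
    exact hg ⟨x, hx⟩
  · rintro ⟨g, hg⟩
    have hg' : ∀ x ∈ P, ι ⟨a x, Subgroup.mem_top _⟩ = g * ι ⟨x, Subgroup.mem_top _⟩ * g⁻¹ := hg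
    let φ : P →* A := MonoidHom.mk' (fun x => a x) fun x y => by
      have h2 : ι ⟨a (x * y : P), Subgroup.mem_top _⟩ =
          ι (⟨a x, Subgroup.mem_top _⟩ * ⟨a y, Subgroup.mem_top _⟩) := by
        have h3 : (⟨((x * y : P) : A), Subgroup.mem_top _⟩ : (⊤ : Subgroup A)) =
            ⟨x, Subgroup.mem_top _⟩ * ⟨y, Subgroup.mem_top _⟩ := rfl
        rw [map_mul, hg' _ (x * y).2, hg' _ x.2, hg' _ y.2, h3, map_mul]
        group
      exact congrArg Subtype.val (hι h2)
    exact ⟨φ, (hm P le_top φ fun _ => Subgroup.mem_top _).2 ⟨g, fun x => hg' x x.2⟩, fun _ _ => rfl⟩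
  · rw [hT]
    ext y
    exact ⟨fun ⟨x, hx⟩ => ⟨x, hx⟩, fun ⟨x, hx⟩ => ⟨_, hx⟩⟩

theorem range_comp_aut {G : Type*} [Group G] (f : A →* G) (θ : MulAut A) : (f.comp θ.toMonoidHom).range = f.range := by
  ext y
  refine ⟨fun ⟨x, hx⟩ => ⟨θ x, hx⟩, fun ⟨x, hx⟩ => ⟨θ⁻¹ x, ?_⟩⟩
  show f (θ (θ⁻¹ x)) = y
  rw [MulAut.apply_inv_self, hx]

theorem Tw.isRealizable {F F' : FusionSystem (⊤ : Subgroup A)} (h : Tw F F') (hr : F'.IsRealizable 2) :
    F.IsRealizable 2 := by
  obtain ⟨G, _, _, f, T, h1, h2, h3⟩ := ind_of_isRealizable hr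
  obtain ⟨θ, h4⟩ := h.ind h1
  exact h4.isRealizable (h2.comp θ.injective) T (by rw [range_comp_aut, h3])

end tw

/-- Over every group with the presentation `D` there are `k` realizable systems with (H), no two twisted. -/
def Models (D : PcD) (k : ℕ) : Prop :=
  ∀ (A : Type) [Group A] (x : ℕ → A), Gen D ⊤ x → ∃ M : Fin k → FusionSystem (⊤ : Subgroup A),
    (∀ i, Hyp (M i) ∧ (M i).IsRealizable 2) ∧ ∀ i j, Tw (M i) (M j) → i = j

section rz

variable {G G' : Type*} [Group G] [Group G'] {D : PcD}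

/-- `x` generates a Sylow 2-subgroup `T` with the presentation `D`, and `F_T(G)` has (H). -/
def Rz (D : PcD) (G : Type*) [Group G] (x : ℕ → G) : Prop :=
  Finite G ∧ ∃ T : Sylow 2 G, Gen D T x ∧ Hyp (groupFusionSystem (T : Subgroup G))

/-- Conjugation by `g` sends the normal form `a` to the normal form `b`. -/
def Act (D : PcD) (x : ℕ → G) (g : G) (a b : ℕ) : Prop := g * el x D.n a = el x D.n b * g

theorem Act.conj {x : ℕ → G} {g : G} {a b : ℕ} (h : Act D x g a b) : g * el x D.n a * g⁻¹ = el x D.n b := by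
  rw [h, mul_inv_cancel_right]

theorem act_of_conj {x : ℕ → G} {g : G} {a b : ℕ} (h : g * el x D.n a * g⁻¹ = el x D.n b) : Act D x g a b := by
  unfold Act
  rw [← h, inv_mul_cancel_right]

theorem Act.isConj {x : ℕ → G} {g : G} {a b : ℕ} (h : Act D x g a b) : IsConj (el x D.n a) (el x D.n b) :=
  isConj_iff.2 ⟨g, h.conj⟩

/-- The fusion of the normal forms in `x` also takes place for the normal forms in `y`. -/
def Tr (D : PcD) (x : ℕ → G) (y : ℕ → G') : Prop := ∀ g : G, ∃ g' : G', ∀ a b, Act D x g a b → Act D y g' a b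

/-- The fusion of `x` does not take place in the group generated by `x'`, whatever its generators. -/
def Sep (D : PcD) (x : ℕ → G) (x' : ℕ → G') : Prop :=
  ∀ (S' : Subgroup G') (y : ℕ → G'), Gen D S' x' → Gen D S' y → ¬ Tr D x y

/-- (H) from explicit elements. -/
theorem rz_of' [Finite G] {S : Subgroup G} {x : ℕ → G} (H : Gen D S x) {m : ℕ} (hm : Nat.card G = 2 ^ D.n * m)
    (ho : ¬ 2 ∣ m)
    (hc : ∀ z ∈ D.zl, ∀ Q : Subgroup G,
      (∀ a b, el x D.n a ∈ Q → IsConj (el x D.n a) (el x D.n b) → el x D.n b ∈ Q) → el x D.n z ∈ Q →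
      ∃ a b, a < D.N ∧ b < D.N ∧ el x D.n a ∈ Q ∧ el x D.n b ∈ Q ∧ D.mul a b ≠ D.mul b a)
    (hr : ∀ i, i < D.n → x i ∈ pResidual 2 G) : Rz D G x := by
  have : Fact (Nat.Prime 2) := ⟨Nat.prime_two⟩
  obtain ⟨T, rfl⟩ := H.exists_sylow hm ho
  refine ⟨inferInstance, T, H, S5076.result 2 T, ?_, ?_⟩
  · by_contra h0
    obtain ⟨Q, hQ0, hQc, hQS, hQ⟩ := (S5089.result 2 H.isPGroup _ (S5076.result 2 T)).1 h0
    have key : ∀ t ∈ Q, ∀ g : G, g * t * g⁻¹ ∈ (T : Subgroup G) → g * t * g⁻¹ ∈ Q := by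
      intro t ht g hg
      have h1 : Subgroup.zpowers t ≤ Q := Subgroup.zpowers_le.2 ht
      refine hQ _ h1 (conjHom _ g) ⟨h1.trans hQS, ?_, g, fun _ => rfl⟩ ⟨t, Subgroup.mem_zpowers t⟩
      rintro ⟨_, k, rfl⟩
      show g * t ^ k * g⁻¹ ∈ (T : Subgroup G)
      rw [← conj_zpow]
      exact Subgroup.zpow_mem _ hg k
    obtain ⟨z, hz, hzQ⟩ := H.exists_z hQS (fun s hs a ha => key a ha s
      ((T : Subgroup G).mul_mem ((T : Subgroup G).mul_mem hs (hQS ha)) ((T : Subgroup G).inv_mem hs))) hQ0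
    obtain ⟨a, b, ha, hb, h1, h2, h3⟩ := hc z hz Q (fun a c ha hc => by
      obtain ⟨g, hg⟩ := isConj_iff.1 hc
      rw [← hg]
      refine key _ ha g ?_
      rw [hg]
      exact H.el_mem' c) hzQ
    have h4 := congrArg Subtype.val (hQc.is_comm.comm ⟨_, h1⟩ ⟨_, h2⟩)
    have h5 : el x D.n a * el x D.n b = el x D.n b * el x D.n a := h4
    rw [H.mul ha, H.mul hb] at h5
    exact h3 (H.inj (D.mul_lt ha _) (D.mul_lt hb _) h5)
  · rw [S5093.result 2 T]
    exact inf_eq_left.2 (H.le_of hr)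

theorem rz_of [Finite G] {S : Subgroup G} {x : ℕ → G} (H : Gen D S x) {m : ℕ} (hm : Nat.card G = 2 ^ D.n * m)
    (ho : ¬ 2 ∣ m)
    (hc : ∀ z ∈ D.zl, ∃ a b, a < D.N ∧ b < D.N ∧ IsConj (el x D.n z) (el x D.n a) ∧ IsConj (el x D.n z) (el x D.n b) ∧
      D.mul a b ≠ D.mul b a)
    (hr : ∀ i, i < D.n → x i ∈ pResidual 2 G) : Rz D G x :=
  rz_of' H hm ho (fun z hz Q hQ hzQ => by
    obtain ⟨a, b, ha, hb, h1, h2, h3⟩ := hc z hz
    exact ⟨a, b, ha, hb, hQ _ _ hzQ h1, hQ _ _ hzQ h2, h3⟩) hr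

/-- The system induced on a group with the presentation `D`. -/
theorem Rz.exists_model {x : ℕ → G} (h : Rz D G x) {A : Type u} [Group A] {y : ℕ → A} (hy : Gen D ⊤ y) :
    ∃ (M : FusionSystem (⊤ : Subgroup A)) (f : A →* G), Hyp M ∧ M.IsRealizable 2 ∧ Ind M f ∧ Function.Injective f ∧
      (∀ a, f (el y D.n a) = el x D.n a) ∧ Gen D f.range x := by
  obtain ⟨_, T, H, hH⟩ := h
  obtain ⟨e, he⟩ := hy.exists_equiv H
  let f : A →* G := (T : Subgroup G).subtype.comp (e.toMonoidHom.comp Subgroup.topEquiv.symm.toMonoidHom)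
  have hf : Function.Injective f :=
    (Subgroup.subtype_injective _).comp (e.injective.comp Subgroup.topEquiv.symm.injective)
  have hT : (T : Subgroup G) = f.range := by
    ext g
    constructor
    · intro hg
      refine ⟨e.symm ⟨g, hg⟩, ?_⟩
      show ((e (e.symm ⟨g, hg⟩) : (T : Subgroup G)) : G) = g
      rw [e.apply_symm_apply]
    · rintro ⟨a, rfl⟩
      exact (e _).2
  have hT' : (T : Subgroup G) = (⊤ : Subgroup A).map f := by rw [hT, MonoidHom.range_eq_map]
  have : Finite (⊤ : Subgroup A) := hy.finite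
  obtain ⟨M, hM⟩ := exists_pull' (hf := hf) hT' (groupFusionSystem (T : Subgroup G))
  have hI : Ind M f := by
    intro P a
    have h1 := mp_push_iff hM (P := P) (a := a) (b := fun t => f (a (Function.invFun f t))) fun s _ => by
      show f (a (Function.invFun f (f s))) = _
      rw [Function.leftInverse_invFun hf s]
    rw [← h1]
    constructor
    · rintro ⟨φ, ⟨-, -, g, hg⟩, h2⟩
      refine ⟨g, fun s hs => ?_⟩
      have h3 : φ ⟨f s, s, hs, rfl⟩ = f (a (Function.invFun f (f s))) := h2 (f s) ⟨s, hs, rfl⟩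
      rw [Function.leftInverse_invFun hf s] at h3
      rw [← h3]
      exact hg ⟨f s, s, hs, rfl⟩
    · rintro ⟨g, hg⟩
      refine ⟨conjHom _ g, ⟨?_, ?_, g, fun _ => rfl⟩, ?_⟩
      · rw [hT]
        exact Subgroup.map_le_range f P
      · rintro ⟨_, s, hs, rfl⟩
        show g * f s * g⁻¹ ∈ (T : Subgroup G)
        rw [← hg s hs, hT]
        exact ⟨_, rfl⟩
      · rintro _ ⟨s, hs, rfl⟩
        show g * f s * g⁻¹ = f (a (Function.invFun f (f s)))
        rw [Function.leftInverse_invFun hf s, hg s hs]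
  refine ⟨M, f, (hyp_push_iff hM).1 hH, hI.isRealizable hf T hT, hI, hf, he, ?_⟩
  rw [← hT]
  exact H

theorem Gen.map {S : Subgroup G} {x : ℕ → G} (H : Gen D S x) (f : G →* G') (hf : Function.Injective f) :
    Gen D (S.map f) fun i => f (x i) := by
  refine ⟨H.ok, ⟨fun i hi => ?_, fun i j hij hj => ?_⟩, fun z hz h => ?_, fun g => ⟨?_, ?_⟩⟩
  · rw [← map_mul, H.rel.sq i hi, map_el]
  · rw [← map_mul, H.rel.cj i j hij hj, map_mul, map_el]
  · rw [← map_el] at h
    exact H.ne z hz (hf (h.trans (map_one f).symm))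
  · rintro ⟨s, hs, rfl⟩
    obtain ⟨a, ha, rfl⟩ := (H.mem s).1 hs
    exact ⟨a, ha, (map_el f x a _).symm⟩
  · rintro ⟨a, ha, rfl⟩
    exact ⟨_, H.el_mem ha, map_el f x a _⟩

/-- Two induced systems which are twisted contradict `Sep`. -/
theorem not_tw {x : ℕ → G} {x' : ℕ → G'} (hs : Sep D x x') {A : Type u} [Group A] {y : ℕ → A} (hy : Gen D ⊤ y)
    {M M' : FusionSystem (⊤ : Subgroup A)} {f : A →* G} {f' : A →* G'} (hI : Ind M f) (hf : Function.Injective f)
    (he : ∀ a, f (el y D.n a) = el x D.n a) (hI' : Ind M' f') (hf' : Function.Injective f') (H' : Gen D f'.range x') :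
    ¬ Tw M M' := by
  intro h
  obtain ⟨θ, h1⟩ := h.ind hI'
  have h2 := hy.map (f'.comp θ.toMonoidHom) (hf'.comp θ.injective)
  rw [← MonoidHom.range_eq_map, range_comp_aut] at h2
  refine hs _ _ H' h2 fun g => ?_
  let P : Subgroup A := (f.range.comap (MulAut.conj g).toMonoidHom).comap f
  have hP : ∀ s ∈ P, f (Function.invFun f (g * f s * g⁻¹)) = g * f s * g⁻¹ := fun s hs => Function.invFun_eq hs
  obtain ⟨g', hg'⟩ := (h1 P _).1 ((hI P fun s => Function.invFun f (g * f s * g⁻¹)).2 ⟨g, hP⟩)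
  refine ⟨g', fun a b hab => act_of_conj ?_⟩
  have h3 : g * f (el y D.n a) * g⁻¹ = f (el y D.n b) := by rw [he, he, hab.conj]
  have h4 : el y D.n a ∈ P := ⟨_, h3.symm⟩
  have h5 := hg' _ h4
  rw [h3, Function.leftInverse_invFun hf, map_el, map_el] at h5
  exact h5.symm

end rz

section models

variable {D : PcD} {G₁ G₂ G₃ G₄ : Type*} [Group G₁] [Group G₂] [Group G₃] [Group G₄] {x₁ : ℕ → G₁} {x₂ : ℕ → G₂}
  {x₃ : ℕ → G₃} {x₄ : ℕ → G₄}

theorem models_one (h : Rz D G₁ x₁) : Models D 1 := by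
  intro A _ y hy
  obtain ⟨M, f, h1, h2, -⟩ := h.exists_model hy
  exact ⟨fun _ => M, fun _ => ⟨h1, h2⟩, fun i j _ => Subsingleton.elim i j⟩

theorem models_two (h₁ : Rz D G₁ x₁) (h₂ : Rz D G₂ x₂) (s : Sep D x₁ x₂) : Models D 2 := by
  intro A _ y hy
  obtain ⟨M₁, f₁, a1, a2, a3, a4, a5, -⟩ := h₁.exists_model hy
  obtain ⟨M₂, f₂, b1, b2, b3, b4, -, b6⟩ := h₂.exists_model hy
  have n12 := not_tw s hy a3 a4 a5 b3 b4 b6
  refine ⟨![M₁, M₂], fun i => ?_, fun i j h => ?_⟩
  · fin_cases i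
    · exact ⟨a1, a2⟩
    · exact ⟨b1, b2⟩
  · fin_cases i <;> fin_cases j
    · rfl
    · exact absurd h n12
    · exact absurd h.symm n12
    · rfl

theorem models_four (h₁ : Rz D G₁ x₁) (h₂ : Rz D G₂ x₂) (h₃ : Rz D G₃ x₃) (h₄ : Rz D G₄ x₄) (s12 : Sep D x₁ x₂)
    (s13 : Sep D x₁ x₃) (s14 : Sep D x₁ x₄) (s23 : Sep D x₂ x₃) (s24 : Sep D x₂ x₄) (s34 : Sep D x₃ x₄) :
    Models D 4 := by
  intro A _ y hy
  obtain ⟨M₁, f₁, a1, a2, a3, a4, a5, -⟩ := h₁.exists_model hy
  obtain ⟨M₂, f₂, b1, b2, b3, b4, b5, b6⟩ := h₂.exists_model hy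
  obtain ⟨M₃, f₃, c1, c2, c3, c4, c5, c6⟩ := h₃.exists_model hy
  obtain ⟨M₄, f₄, d1, d2, d3, d4, -, d6⟩ := h₄.exists_model hy
  have n12 := not_tw s12 hy a3 a4 a5 b3 b4 b6
  have n13 := not_tw s13 hy a3 a4 a5 c3 c4 c6
  have n14 := not_tw s14 hy a3 a4 a5 d3 d4 d6
  have n23 := not_tw s23 hy b3 b4 b5 c3 c4 c6
  have n24 := not_tw s24 hy b3 b4 b5 d3 d4 d6
  have n34 := not_tw s34 hy c3 c4 c5 d3 d4 d6
  refine ⟨![M₁, M₂, M₃, M₄], fun i => ?_, fun i j h => ?_⟩
  · fin_cases i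
    · exact ⟨a1, a2⟩
    · exact ⟨b1, b2⟩
    · exact ⟨c1, c2⟩
    · exact ⟨d1, d2⟩
  · fin_cases i <;> fin_cases j <;> first
      | rfl
      | exact absurd h n12 | exact absurd h n13 | exact absurd h n14
      | exact absurd h n23 | exact absurd h n24 | exact absurd h n34
      | exact absurd h.symm n12 | exact absurd h.symm n13 | exact absurd h.symm n14
      | exact absurd h.symm n23 | exact absurd h.symm n24 | exact absurd h.symm n34

end models

end Cfsg.Agent.FS.Real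
end

-- part: FS/Real/Mdl
section
prune_inst 0x4200000080000000018000200001c0282000000000b00013140070206869820a0002621c8000c00001000440030000000000000001000000000000001180080002200021100a104000000803007180c00000000000000000000000000041000000000000
set_option linter.all false
open scoped Cfsg.Agent.FastGrp

-- part: FS/Real/Inv
section
/-!
# Invariants which separate realisations (helper83, project FS, part C)
-/

set_option autoImplicit false

namespace Cfsg.Agent.FS.Real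

open Cfsg

section group

variable {G : Type*} [Group G]

/-- The number of conjugates of `t` under `K` divides `|K|`. -/
theorem ncard_conj_mul (K : Subgroup G) (t : G) :
    Set.ncard {s | ∃ g ∈ K, g * t * g⁻¹ = s} * Nat.card (K ⊓ Subgroup.centralizer {t} : Subgroup G) = Nat.card K := by
  let _ : MulAction K G := MulAction.compHom G (MulAut.conj.comp K.subtype)
  have h1 : MulAction.orbit K t = {s | ∃ g ∈ K, g * t * g⁻¹ = s} := by
    ext s
    exact ⟨fun ⟨g, hg⟩ => ⟨g, g.2, hg⟩, fun ⟨g, hg, h⟩ => ⟨⟨g, hg⟩, h⟩⟩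
  have h2 : MulAction.stabilizer K t = (K ⊓ Subgroup.centralizer {t} : Subgroup G).subgroupOf K := by
    ext g
    rw [MulAction.mem_stabilizer_iff, Subgroup.mem_subgroupOf, Subgroup.mem_inf, Subgroup.mem_centralizer_singleton_iff]
    show (g : G) * t * (g : G)⁻¹ = t ↔ _
    rw [mul_inv_eq_iff_eq_mul]
    exact ⟨fun h => ⟨g.2, h⟩, fun h => h.2⟩
  rw [← h1, ← MulAction.index_stabilizer, ← (MulAction.stabilizer K t).index_mul_card, h2,
    Nat.card_congr (Subgroup.subgroupOfEquivOfLe inf_le_left).toEquiv]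

/-- An orbit of length `m` of two elements of `C`; `ζ` is central. -/
theorem orbit_dvd [Finite G] (C : Subgroup G) {ζ : G} (hζ : ∀ g, ζ * g = g * ζ) (hζC : ζ ∈ C) {g₁ g₂ : G}
    (h₁ : g₁ ∈ C) (h₂ : g₂ ∈ C) {m : ℕ} (hm : 0 < m) {t : ℕ → G}
    {σ₁ σ₂ : ℕ → ℕ} (hinj : ∀ j k, j < k → k < m → t j ≠ t k)
    (a₁ : ∀ k, k < m → σ₁ k < m ∧ g₁ * t k * g₁⁻¹ = t (σ₁ k)) (a₂ : ∀ k, k < m → σ₂ k < m ∧ g₂ * t k * g₂⁻¹ = t (σ₂ k))
    (hr : ∀ k, 0 < k → k < m → ∃ j, j < k ∧ (σ₁ j = k ∨ σ₂ j = k)) : m * orderOf ζ ∣ Nat.card C := by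
  have hpow : ∀ g : G, (∀ k, k < m → ∃ l, l < m ∧ g * t k * g⁻¹ = t l) →
      ∀ e k : ℕ, k < m → ∃ l, l < m ∧ g ^ e * t k * (g ^ e)⁻¹ = t l := by
    intro g hg e
    induction e with
    | zero => exact fun k hk => ⟨k, hk, by simp⟩
    | succ e ih =>
      intro k hk
      obtain ⟨l, hl, h⟩ := ih k hk
      obtain ⟨l', hl', h'⟩ := hg l hl
      refine ⟨l', hl', ?_⟩
      rw [← h', ← h, pow_succ']
      group
  let K : Subgroup G :=
    { carrier := {g | g ∈ C ∧ ∀ k, k < m → ∃ l, l < m ∧ g * t k * g⁻¹ = t l}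
      one_mem' := ⟨C.one_mem, fun k hk => ⟨k, hk, by simp⟩⟩
      mul_mem' := by
        rintro a b ⟨ha, ha'⟩ ⟨hb, hb'⟩
        refine ⟨C.mul_mem ha hb, fun k hk => ?_⟩
        obtain ⟨l, hl, h⟩ := hb' k hk
        obtain ⟨l', hl', h'⟩ := ha' l hl
        refine ⟨l', hl', ?_⟩
        rw [← h', ← h]
        group
      inv_mem' := by
        rintro a ⟨ha, ha'⟩
        refine ⟨C.inv_mem ha, ?_⟩
        have h1 : a⁻¹ = a ^ (orderOf a - 1) := by
          rw [inv_eq_iff_mul_eq_one, ← pow_succ', Nat.sub_add_cancel (orderOf_pos a), pow_orderOf_eq_one]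
        rw [h1]
        exact hpow a ha' _ }
  have hK : K ≤ C := fun g hg => hg.1
  have k₁ : g₁ ∈ K := ⟨h₁, fun k hk => ⟨_, a₁ k hk⟩⟩
  have k₂ : g₂ ∈ K := ⟨h₂, fun k hk => ⟨_, a₂ k hk⟩⟩
  have h3 : {s | ∃ g ∈ K, g * t 0 * g⁻¹ = s} = t '' Set.Iio m := by
    ext s
    constructor
    · rintro ⟨g, hg, rfl⟩
      obtain ⟨l, hl, h⟩ := hg.2 0 hm
      exact ⟨l, hl, h.symm⟩
    · rintro ⟨k, hk, rfl⟩
      induction k using Nat.strong_induction_on with
      | _ k ih =>
        rcases Nat.eq_zero_or_pos k with rfl | h0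
        · exact ⟨1, K.one_mem, by simp⟩
        obtain ⟨j, hj, h⟩ := hr k h0 hk
        have hjm : j < m := hj.trans hk
        obtain ⟨g, hg, h4⟩ := ih j hj hjm
        rcases h with h | h
        · refine ⟨g₁ * g, K.mul_mem k₁ hg, ?_⟩
          rw [← h, ← (a₁ j hjm).2, ← h4]
          group
        · refine ⟨g₂ * g, K.mul_mem k₂ hg, ?_⟩
          rw [← h, ← (a₂ j hjm).2, ← h4]
          group
  have h4 := ncard_conj_mul K (t 0)
  rw [h3, Set.InjOn.ncard_image (fun j hj k hk h => by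
    rcases lt_trichotomy j k with h5 | h5 | h5
    · exact absurd h (hinj j k h5 hk)
    · exact h5
    · exact absurd h.symm (hinj k j h5 hj)), Set.ncard_Iio_nat] at h4
  have h5 : ζ ∈ (K ⊓ Subgroup.centralizer {t 0} : Subgroup G) :=
    ⟨⟨hζC, fun k hk => ⟨k, hk, by rw [hζ, mul_inv_cancel_right]⟩⟩, Subgroup.mem_centralizer_singleton_iff.2 (hζ _)⟩
  refine Dvd.dvd.trans ?_ (Subgroup.card_dvd_of_le hK)
  rw [← h4]
  exact Nat.mul_dvd_mul_left _ (Subgroup.orderOf_dvd_natCard _ h5)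

/-- Many conjugates: a small centralizer. -/
theorem conj_mul_le [Finite G] {z : G} {m : ℕ} {t : ℕ → G} (hinj : ∀ j k, j < k → k < m → t j ≠ t k)
    (hc : ∀ k, k < m → IsConj z (t k)) : m * Nat.card (Subgroup.centralizer {z} : Subgroup G) ≤ Nat.card G := by
  have h1 := ncard_conj_mul (⊤ : Subgroup G) z
  rw [top_inf_eq, Subgroup.card_top] at h1
  rw [← h1]
  refine Nat.mul_le_mul_right _ ?_
  have h2 : t '' Set.Iio m ⊆ {s | ∃ g ∈ (⊤ : Subgroup G), g * z * g⁻¹ = s} := by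
    rintro _ ⟨k, hk, rfl⟩
    obtain ⟨g, hg⟩ := isConj_iff.1 (hc k hk)
    exact ⟨g, Subgroup.mem_top g, hg⟩
  have h3 := Set.ncard_le_ncard h2 (Set.toFinite _)
  rwa [Set.InjOn.ncard_image (fun j hj k hk h => by
    rcases lt_trichotomy j k with h5 | h5 | h5
    · exact absurd h (hinj j k h5 hk)
    · exact h5
    · exact absurd h.symm (hinj k j h5 hj)), Set.ncard_Iio_nat] at h3

theorem card_cent_of_isConj [Finite G] {a b : G} (h : IsConj a b) :
    Nat.card (Subgroup.centralizer {a} : Subgroup G) = Nat.card (Subgroup.centralizer {b} : Subgroup G) := by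
  have h1 := ncard_conj_mul (⊤ : Subgroup G) a
  have h2 := ncard_conj_mul (⊤ : Subgroup G) b
  rw [top_inf_eq] at h1 h2
  obtain ⟨c, rfl⟩ := isConj_iff.1 h
  have h3 : {s | ∃ g ∈ (⊤ : Subgroup G), g * (c * a * c⁻¹) * g⁻¹ = s} = {s | ∃ g ∈ (⊤ : Subgroup G), g * a * g⁻¹ = s} := by
    ext s
    constructor
    · rintro ⟨g, -, rfl⟩
      exact ⟨g * c, Subgroup.mem_top _, by group⟩
    · rintro ⟨g, -, rfl⟩
      exact ⟨g * c⁻¹, Subgroup.mem_top _, by group⟩
  rw [h3, ← h1] at h2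
  refine (Nat.eq_of_mul_eq_mul_left ?_ h2).symm
  exact (Set.ncard_pos (Set.toFinite _)).2 ⟨a, 1, Subgroup.mem_top _, by simp⟩

theorem mem_pResidual_of_pow {g : G} {m : ℕ} (hm : m % 2 = 1) (h : g ^ m = 1) : g ∈ pResidual 2 G := by
  refine Transfer.Residual.mem_pResidual_of_coprime ?_
  refine Nat.Coprime.coprime_dvd_left (orderOf_dvd_of_pow_eq_one h) ?_
  exact (Nat.coprime_two_right).2 (Nat.odd_iff.2 hm)

/-- A simple group whose order is not a power of two. -/
theorem pResidual_eq_top [Finite G] [IsSimpleGroup G] {r : ℕ} (hr : r.Prime) (h2 : r % 2 = 1) (h : r ∣ Nat.card G) :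
    pResidual 2 G = ⊤ := by
  have : Fact r.Prime := ⟨hr⟩
  obtain ⟨g, hg⟩ := exists_prime_orderOf_dvd_card' r h
  have h3 : g ∈ pResidual 2 G := mem_pResidual_of_pow h2 (by rw [← hg, pow_orderOf_eq_one])
  refine (Transfer.Residual.pResidual_normal (p := 2) (G := G)).eq_bot_or_eq_top.resolve_left fun h4 => ?_
  rw [h4, Subgroup.mem_bot] at h3
  rw [h3, orderOf_one] at hg
  exact hr.one_lt.ne hg

end group

/-- check: `z` is a central involution -/
noncomputable def PcD.cinv (D : PcD) (z : ℕ) : Bool :=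
  Nat.blt z (2 ^ D.n) && !Nat.beq z 0 && Nat.beq (D.mul z z) 0 &&
    allB D.n fun i => Nat.beq (D.mul z (2 ^ i)) (D.mul (2 ^ i) z)

/-- check: the orbit `A` of length `m` with the two permutations `s₁`, `s₂` (entries of 8 bits) -/
noncomputable def PcD.orb (D : PcD) (m A s₁ s₂ : ℕ) : Bool :=
  Nat.blt 0 m && (allB m fun k => Nat.blt (get 8 A k) (2 ^ D.n) && Nat.blt (get 8 s₁ k) m && Nat.blt (get 8 s₂ k) m &&
    (allB k fun j => !Nat.beq (get 8 A j) (get 8 A k)) &&
    (Nat.beq k 0 || anyB k fun j => Nat.beq (get 8 s₁ j) k || Nat.beq (get 8 s₂ j) k))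

section sep

variable {G G' : Type*} [Group G] [Group G'] {D : PcD}

theorem Gen.cinv {S : Subgroup G} {x : ℕ → G} (H : Gen D S x) {z : ℕ} (hz : D.cinv z = true) :
    el x D.n z ≠ 1 ∧ el x D.n z * el x D.n z = 1 ∧ ∀ s ∈ S, s * el x D.n z = el x D.n z * s := by
  unfold PcD.cinv at hz
  simp only [Bool.and_eq_true] at hz
  obtain ⟨⟨⟨h1, h2⟩, h3⟩, h4⟩ := hz
  have h5 : z < D.N := blt_lt h1
  refine ⟨fun h => nbeq_ne h2 (H.eq_zero h5 h), by rw [H.mul h5, beq_eq h3, el_nil], fun s hs => ?_⟩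
  have h6 : S ≤ Subgroup.centralizer {el x D.n z} := H.le_of fun i hi => by
    rw [Subgroup.mem_centralizer_singleton_iff, ← el_two_pow x _ hi, H.mul h5, H.mul (D.two_pow_lt hi),
      beq_eq (allB_spec h4 hi)]
  exact Subgroup.mem_centralizer_singleton_iff.1 (h6 hs)

/-- The action of `g` on the orbit. -/
def ActO (D : PcD) (x : ℕ → G) (g : G) (m A s : ℕ) : Prop :=
  ∀ k, k < m → Act D x g (get 8 A k) (get 8 A (get 8 s k))

theorem Gen.orb_dvd [Finite G] {S : Subgroup G} {y : ℕ → G} (H : Gen D S y) {m A s₁ s₂ : ℕ} (ho : D.orb m A s₁ s₂ = true)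
    (C : Subgroup G) {ζ : G} (hζ : ∀ g, ζ * g = g * ζ) (hζC : ζ ∈ C) {g₁ g₂ : G} (h₁ : g₁ ∈ C) (h₂ : g₂ ∈ C)
    (a₁ : ActO D y g₁ m A s₁) (a₂ : ActO D y g₂ m A s₂) : m * orderOf ζ ∣ Nat.card C := by
  unfold PcD.orb at ho
  rw [Bool.and_eq_true] at ho
  have h : ∀ k, k < m → get 8 A k < D.N ∧ get 8 s₁ k < m ∧ get 8 s₂ k < m ∧ (∀ j, j < k → get 8 A j ≠ get 8 A k) ∧
      (0 < k → ∃ j, j < k ∧ (get 8 s₁ j = k ∨ get 8 s₂ j = k)) := by
    intro k hk
    have h1 := allB_spec ho.2 hk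
    simp only [Bool.and_eq_true, Bool.or_eq_true] at h1
    obtain ⟨⟨⟨⟨h2, h3⟩, h4⟩, h5⟩, h6⟩ := h1
    refine ⟨blt_lt h2, blt_lt h3, blt_lt h4, fun j hj => nbeq_ne (allB_spec h5 hj), fun h0 => ?_⟩
    rcases h6 with h6 | h6
    · exact absurd (beq_eq h6) h0.ne'
    · obtain ⟨j, hj, h7⟩ := anyB_spec h6
      rw [Bool.or_eq_true] at h7
      exact ⟨j, hj, h7.imp beq_eq beq_eq⟩
  exact orbit_dvd C hζ hζC h₁ h₂ (blt_lt ho.1) (t := fun k => el y D.n (get 8 A k)) (σ₁ := get 8 s₁) (σ₂ := get 8 s₂)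
    (fun j k hj hk h1 => (h k hk).2.2.2.1 j hj (H.inj (h j (hj.trans hk)).1 (h k hk).1 h1))
    (fun k hk => ⟨(h k hk).2.1, (a₁ k hk).conj⟩) (fun k hk => ⟨(h k hk).2.2.1, (a₂ k hk).conj⟩)
    fun k h0 hk => (h k hk).2.2.2.2 h0

/-- An orbit whose length does not divide the order of the other group. -/
theorem sep_card [Finite G'] {x : ℕ → G} {x' : ℕ → G'} {m A s₁ s₂ : ℕ} (ho : D.orb m A s₁ s₂ = true) {g₁ g₂ : G}
    (a₁ : ActO D x g₁ m A s₁) (a₂ : ActO D x g₂ m A s₂) (hn : ¬ m ∣ Nat.card G') : Sep D x x' := by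
  intro S' y _ H hT
  obtain ⟨k₁, b₁⟩ := hT g₁
  obtain ⟨k₂, b₂⟩ := hT g₂
  have h := H.orb_dvd ho ⊤ (ζ := 1) (fun g => by rw [one_mul, mul_one]) (Subgroup.mem_top _) (Subgroup.mem_top k₁)
    (Subgroup.mem_top k₂) (fun k hk => b₁ _ _ (a₁ k hk)) fun k hk => b₂ _ _ (a₂ k hk)
  rw [Subgroup.card_top, orderOf_one, mul_one] at h
  exact hn h

/-- An orbit of elements fixing a central involution. -/
theorem sep_cent' [Finite G'] {ζ : G'} (hζ : ∀ g, ζ * g = g * ζ) {x : ℕ → G} {x' : ℕ → G'} {m A s₁ s₂ z : ℕ} (ho : D.orb m A s₁ s₂ = true)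
    (hz : D.cinv z = true) {g₁ g₂ : G} (a₁ : ActO D x g₁ m A s₁) (a₂ : ActO D x g₂ m A s₂) (z₁ : Act D x g₁ z z)
    (z₂ : Act D x g₂ z z)
    (hn : ∀ w ∈ D.zl, ¬ m * orderOf ζ ∣ Nat.card (Subgroup.centralizer {el x' D.n w} : Subgroup G')) :
    Sep D x x' := by
  intro S' y H' H hT
  obtain ⟨k₁, b₁⟩ := hT g₁
  obtain ⟨k₂, b₂⟩ := hT g₂
  obtain ⟨c1, c2, c3⟩ := H.cinv hz
  obtain ⟨w, hw, h1⟩ := H'.central (H.el_mem' z) c1 c2 c3
  refine hn w hw ?_
  rw [h1]
  exact H.orb_dvd ho _ hζ (Subgroup.mem_centralizer_singleton_iff.2 (hζ _))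
    (Subgroup.mem_centralizer_singleton_iff.2 (b₁ _ _ z₁))
    (Subgroup.mem_centralizer_singleton_iff.2 (b₂ _ _ z₂)) (fun k hk => b₁ _ _ (a₁ k hk)) fun k hk => b₂ _ _ (a₂ k hk)

theorem sep_cent [Finite G'] {x : ℕ → G} {x' : ℕ → G'} {m A s₁ s₂ z : ℕ} (ho : D.orb m A s₁ s₂ = true)
    (hz : D.cinv z = true) {g₁ g₂ : G} (a₁ : ActO D x g₁ m A s₁) (a₂ : ActO D x g₂ m A s₂) (z₁ : Act D x g₁ z z)
    (z₂ : Act D x g₂ z z) (hn : ∀ w ∈ D.zl, ¬ m ∣ Nat.card (Subgroup.centralizer {el x' D.n w} : Subgroup G')) :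
    Sep D x x' :=
  sep_cent' (ζ := 1) (fun g => by rw [one_mul, mul_one]) ho hz a₁ a₂ z₁ z₂ fun w hw => by
    rw [orderOf_one, mul_one]
    exact hn w hw

/-- Two elements fixing `z` act on the orbit. -/
def Pos (D : PcD) (x : ℕ → G) (m A s₁ s₂ z : ℕ) : Prop :=
  ∃ g₁ g₂ : G, ActO D x g₁ m A s₁ ∧ ActO D x g₂ m A s₂ ∧ Act D x g₁ z z ∧ Act D x g₂ z z

theorem Pos.sep_card [Finite G'] {x : ℕ → G} {x' : ℕ → G'} {m A s₁ s₂ z : ℕ} (h : Pos D x m A s₁ s₂ z)
    (ho : D.orb m A s₁ s₂ = true) (hn : ¬ m ∣ Nat.card G') : Sep D x x' := by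
  obtain ⟨g₁, g₂, a₁, a₂, -⟩ := h
  exact Real.sep_card ho a₁ a₂ hn

theorem Pos.sep_cent [Finite G'] {x : ℕ → G} {x' : ℕ → G'} {m A s₁ s₂ z : ℕ} (h : Pos D x m A s₁ s₂ z)
    (ho : D.orb m A s₁ s₂ = true) (hz : D.cinv z = true)
    (hn : ∀ w ∈ D.zl, ¬ m ∣ Nat.card (Subgroup.centralizer {el x' D.n w} : Subgroup G')) : Sep D x x' := by
  obtain ⟨g₁, g₂, a₁, a₂, z₁, z₂⟩ := h
  exact Real.sep_cent ho hz a₁ a₂ z₁ z₂ hn

theorem Rz.orderOf_z {x : ℕ → G} (h : Rz D G x) (hz : D.zl.all D.cinv = true) {w : ℕ} (hw : w ∈ D.zl) :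
    orderOf (el x D.n w) = 2 := by
  obtain ⟨-, T, H, -⟩ := h
  obtain ⟨c1, c2, -⟩ := H.cinv (List.all_eq_true.1 hz w hw)
  exact orderOf_eq_prime (by rw [pow_two, c2]) c1

/-- One class of involutions against two. -/
theorem sep_class {S : Subgroup G} {x : ℕ → G} {x' : ℕ → G'} (H : Gen D S x)
    (h : ∀ a b : G, a ≠ 1 → a * a = 1 → b ≠ 1 → b * b = 1 → IsConj a b) {S' : Subgroup G'} (H' : Gen D S' x') {t u : G'}
    (ht : t ∈ S') (hu : u ∈ S') (t1 : t ≠ 1) (t2 : t * t = 1) (u1 : u ≠ 1) (u2 : u * u = 1) (hn : ¬ IsConj t u) :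
    Sep D x x' := by
  intro S'' y H'' Hy hT
  have hS : S'' = S' := Subgroup.ext fun g => (H''.mem g).trans (H'.mem g).symm
  subst hS
  obtain ⟨a, ha, rfl⟩ := (Hy.mem t).1 ht
  obtain ⟨b, hb, rfl⟩ := (Hy.mem u).1 hu
  have key : ∀ c, c < D.N → el y D.n c ≠ 1 → el y D.n c * el y D.n c = 1 →
      el x D.n c ≠ 1 ∧ el x D.n c * el x D.n c = 1 := by
    intro c hc h1 h2
    rw [Hy.mul hc] at h2
    refine ⟨fun h3 => h1 (by rw [H.eq_zero hc h3, el_nil]), ?_⟩
    rw [H.mul hc, Hy.eq_zero (D.mul_lt hc _) h2, el_nil]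
  obtain ⟨g, hg⟩ := isConj_iff.1 (h _ _ (key a ha t1 t2).1 (key a ha t1 t2).2 (key b hb u1 u2).1 (key b hb u1 u2).2)
  obtain ⟨g', hg'⟩ := hT g
  exact hn (hg' _ _ (act_of_conj hg)).isConj

/-- Many conjugates of a central involution. -/
theorem Gen.not_dvd_cent [Finite G] {S : Subgroup G} {x : ℕ → G} (H : Gen D S x) {z : ℕ} (hz : D.cinv z = true)
    {m r : ℕ} (hr : r % 2 = 1) (h1 : m * Nat.card (Subgroup.centralizer {el x D.n z} : Subgroup G) ≤ Nat.card G)
    (h2 : Nat.card G < m * (2 ^ D.n * r)) : ¬ r ∣ Nat.card (Subgroup.centralizer {el x D.n z} : Subgroup G) := by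
  intro h3
  have h4 : 2 ^ D.n ∣ Nat.card (Subgroup.centralizer {el x D.n z} : Subgroup G) := by
    rw [← H.card]
    exact Subgroup.card_dvd_of_le fun s hs => Subgroup.mem_centralizer_singleton_iff.2 ((H.cinv hz).2.2 s hs)
  have h5 : Nat.Coprime (2 ^ D.n) r := Nat.Coprime.pow_left _ ((Nat.coprime_two_left).2 (Nat.odd_iff.2 hr))
  have h6 := Nat.le_of_dvd Nat.card_pos (h5.mul_dvd_of_dvd_of_dvd h4 h3)
  have h7 := Nat.mul_le_mul_left m h6
  omega

/-- (H) for a group with one class of involutions. -/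
theorem Gen.core_of_class {S : Subgroup G} {x : ℕ → G} (H : Gen D S x)
    (h : ∀ a b : G, a ≠ 1 → a * a = 1 → b ≠ 1 → b * b = 1 → IsConj a b) {a b : ℕ}
    (hc : (D.zl.all D.cinv && Nat.blt a (2 ^ D.n) && Nat.blt b (2 ^ D.n) && Nat.beq (D.mul a a) 0 &&
      Nat.beq (D.mul b b) 0 && !Nat.beq (D.mul a b) (D.mul b a)) = true) :
    ∀ z ∈ D.zl, ∃ a b, a < D.N ∧ b < D.N ∧ IsConj (el x D.n z) (el x D.n a) ∧ IsConj (el x D.n z) (el x D.n b) ∧
      D.mul a b ≠ D.mul b a := by
  simp only [Bool.and_eq_true, List.all_eq_true] at hc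
  obtain ⟨⟨⟨⟨⟨h1, h2⟩, h3⟩, h4⟩, h5⟩, h6⟩ := hc
  have ha : a < D.N := blt_lt h2
  have hb : b < D.N := blt_lt h3
  have h7 : el x D.n a * el x D.n b ≠ el x D.n b * el x D.n a := fun h8 => by
    rw [H.mul ha, H.mul hb] at h8
    exact nbeq_ne h6 (H.inj (D.mul_lt ha _) (D.mul_lt hb _) h8)
  intro z hz
  obtain ⟨c1, c2, -⟩ := H.cinv (h1 z hz)
  refine ⟨a, b, ha, hb, h _ _ c1 c2 (fun h8 => h7 (by rw [h8, one_mul, mul_one])) ?_,
    h _ _ c1 c2 (fun h8 => h7 (by rw [h8, one_mul, mul_one])) ?_, nbeq_ne h6⟩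
  · rw [H.mul ha, beq_eq h4, el_nil]
  · rw [H.mul hb, beq_eq h5, el_nil]

end sep

end Cfsg.Agent.FS.Real
end

-- part: FS/Real/Mdl
section
/-!
# Computable models of groups and the checkers (helper83, project FS, part C)

`Mdl G`: natural numbers code elements of `G`; products, equality and inequality can be computed on the codes.
-/

set_option autoImplicit false

namespace Cfsg.Agent.FS.Real

open Cfsg

/-- evaluate `n` before passing it on -/
noncomputable def force {α : Type} (n : ℕ) (f : ℕ → α) : α := Nat.rec (f 0) (fun k _ => f (Nat.succ k)) n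

theorem force_eq {α : Type} (n : ℕ) (f : ℕ → α) : force n f = f n := by cases n <;> rfl

/-- A computable model of `G`. -/
structure Mdl (G : Type) [Group G] where
  /-- the code `c` stands for `g` -/
  R : ℕ → G → Prop
  /-- product -/
  mul : ℕ → ℕ → ℕ
  /-- unit -/
  one : ℕ
  /-- equality -/
  eqv : ℕ → ℕ → Bool
  /-- inequality -/
  neq : ℕ → ℕ → Bool
  /-- existence, with a witness -/
  ok : ℕ → ℕ → Bool
  R_one : R one 1
  R_mul : ∀ {a b : ℕ} {g h : G}, R a g → R b h → R (mul a b) (g * h)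
  eq_of : ∀ {a b : ℕ} {g h : G}, R a g → R b h → eqv a b = true → g = h
  ne_of : ∀ {a b : ℕ} {g h : G}, R a g → R b h → neq a b = true → g ≠ h
  ex_of : ∀ {a w : ℕ}, ok a w = true → ∃ g, R a g

/-- certificate for the core: two non-commuting conjugates `a`, `b` of `z` -/
structure CoreC where
  z : ℕ
  a : ℕ
  b : ℕ
  ca : ℕ
  wa : ℕ
  cb : ℕ
  wb : ℕ

/-- certificate for the residual: `el a = u * v` with `u ^ m = 1 = v ^ k`, `m = m' + 1` and `k` odd -/
structure ResC where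
  a : ℕ
  c : ℕ
  w : ℕ
  m' : ℕ
  k : ℕ

/-- products of known elements -/
noncomputable def PcD.close (D : PcD) (l : List (ℕ × ℕ)) (M : ℕ) : ℕ :=
  List.rec (fun M => M) (fun p _ r M => force M fun M =>
    r (bif tb M p.1 && tb M p.2 && Nat.blt p.1 (2 ^ D.n) then M ||| 2 ^ D.mul p.1 p.2 else M)) l M

/-- the set of the seeds -/
noncomputable def seedM (l : List ℕ) : ℕ := List.rec 0 (fun a _ r => r ||| 2 ^ a) l

theorem seedM_spec {l : List ℕ} {a : ℕ} (h : tb (seedM l) a = true) : a ∈ l := by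
  induction l with
  | nil =>
    rw [tb_eq] at h
    exact absurd h (by rw [show seedM [] = 0 from rfl, Nat.zero_testBit]; simp)
  | cons b l ih =>
    rw [show seedM (b :: l) = seedM l ||| 2 ^ b from rfl, tb_eq, Nat.testBit_or, Bool.or_eq_true, Nat.testBit_two_pow,
      decide_eq_true_eq, ← tb_eq] at h
    rcases h with h | h
    · exact List.mem_cons_of_mem _ (ih h)
    · rw [h]
      exact List.mem_cons_self

theorem Gen.close {G : Type*} [Group G] {D : PcD} {S : Subgroup G} {x : ℕ → G} (H : Gen D S x) {K : Subgroup G}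
    (l : List (ℕ × ℕ)) : ∀ M : ℕ, (∀ a, tb M a = true → el x D.n a ∈ K) →
      ∀ a, tb (D.close l M) a = true → el x D.n a ∈ K := by
  induction l with
  | nil => exact fun M h => h
  | cons p l ih =>
    intro M h
    have h1 : D.close (p :: l) M = force M fun M => D.close l
      (bif tb M p.1 && tb M p.2 && Nat.blt p.1 (2 ^ D.n) then M ||| 2 ^ D.mul p.1 p.2 else M) := rfl
    rw [h1, force_eq]
    refine ih _ ?_
    cases hc : (tb M p.1 && tb M p.2 && Nat.blt p.1 (2 ^ D.n))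
    · exact h
    · simp only [Bool.and_eq_true] at hc
      intro a ha
      rw [cond_true, tb_eq, Nat.testBit_or, Bool.or_eq_true, Nat.testBit_two_pow, decide_eq_true_eq, ← tb_eq] at ha
      rcases ha with ha | ha
      · exact h a ha
      · rw [← ha, ← H.mul (blt_lt hc.2)]
        exact K.mul_mem (h _ hc.1.1) (h _ hc.1.2)

/-- check: the seeds generate -/
noncomputable def PcD.gens (D : PcD) (s : List ℕ) (l : List (ℕ × ℕ)) : Bool :=
  force (D.close l (seedM s)) fun M => allB D.n fun i => tb M (2 ^ i)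

theorem Gen.gens {G : Type*} [Group G] {D : PcD} {S : Subgroup G} {x : ℕ → G} (H : Gen D S x) {K : Subgroup G}
    {s : List ℕ} {l : List (ℕ × ℕ)} (h : D.gens s l = true) (hs : ∀ a ∈ s, el x D.n a ∈ K) {i : ℕ} (hi : i < D.n) :
    x i ∈ K := by
  unfold PcD.gens at h
  rw [force_eq] at h
  rw [← el_two_pow x _ hi]
  exact H.close l _ (fun a ha => hs a (seedM_spec ha)) _ (allB_spec h hi)

namespace Mdl

variable {G : Type} [Group G] (M : Mdl G)

/-- the group -/
abbrev T (_ : Mdl G) : Type := G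

/-- powers -/
noncomputable def pw (c m : ℕ) : ℕ := Nat.rec M.one (fun _ r => M.mul r c) m

/-- normal forms -/
noncomputable def elc (X : ℕ → ℕ) (n a : ℕ) : ℕ := Nat.rec M.one (fun k r => bif tb a k then M.mul r (X k) else r) n

/-- check: conjugation -/
noncomputable def act (D : PcD) (X : ℕ → ℕ) (c a b : ℕ) : Bool :=
  M.eqv (M.mul c (M.elc X D.n a)) (M.mul (M.elc X D.n b) c)

/-- check: action on an orbit -/
noncomputable def actO (D : PcD) (X : ℕ → ℕ) (c m A s : ℕ) : Bool :=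
  allB m fun k => M.act D X c (get 8 A k) (get 8 A (get 8 s k))

/-- check: existence of the generators -/
noncomputable def oks (X W : ℕ → ℕ) (n : ℕ) : Bool := allB n fun i => M.ok (X i) (W i)

/-- check: relations -/
noncomputable def rels (D : PcD) (X : ℕ → ℕ) : Bool :=
  (allB D.n fun i => M.eqv (M.mul (X i) (X i)) (M.elc X D.n (D.rel i i))) &&
  (allB D.n fun j => allB j fun i => M.eqv (M.mul (X j) (X i)) (M.mul (X i) (M.elc X D.n (D.rel j i)))) &&
  D.zl.all fun z => M.neq (M.elc X D.n z) M.one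

/-- check: trivial core -/
noncomputable def cores (D : PcD) (X : ℕ → ℕ) (l : List CoreC) : Bool :=
  D.zl.all fun z => l.any fun e => Nat.beq e.z z && Nat.blt e.a (2 ^ D.n) && Nat.blt e.b (2 ^ D.n) &&
    !Nat.beq (D.mul e.a e.b) (D.mul e.b e.a) && M.ok e.ca e.wa && M.ok e.cb e.wb &&
    M.act D X e.ca z e.a && M.act D X e.cb z e.b

/-- derivation: a step `(a, b, c)` is the product `a * b` if `c = 0`, and the conjugate `b` of `a` by `c` otherwise -/
noncomputable def der (D : PcD) (X : ℕ → ℕ) (l : List (ℕ × ℕ × ℕ)) (K : ℕ) : ℕ :=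
  List.rec (fun K => K) (fun p _ r K => force K fun K =>
    r (bif tb K p.1 then
      bif Nat.beq p.2.2 0 then (bif tb K p.2.1 && Nat.blt p.1 (2 ^ D.n) then K ||| 2 ^ D.mul p.1 p.2.1 else K)
      else (bif M.ok p.2.2 0 && M.act D X p.2.2 p.1 p.2.1 then K ||| 2 ^ p.2.1 else K)
    else K)) l K

/-- check: trivial core, by a derivation -/
noncomputable def cores' (D : PcD) (X : ℕ → ℕ) (l : List (ℕ × ℕ × ℕ)) (e : List (ℕ × ℕ)) : Bool :=
  D.zl.all fun z => force (M.der D X l (2 ^ z)) fun K => e.any fun p => tb K p.1 && tb K p.2 &&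
    Nat.blt p.1 (2 ^ D.n) && Nat.blt p.2 (2 ^ D.n) && !Nat.beq (D.mul p.1 p.2) (D.mul p.2 p.1)

/-- check: products of two elements of odd order -/
noncomputable def ress (D : PcD) (X : ℕ → ℕ) (l : List ResC) : Bool :=
  l.all fun e => Nat.beq (e.m' % 2) 0 && Nat.beq (e.k % 2) 1 && M.ok e.c e.w &&
    force (M.pw e.c e.m') fun v => M.eqv (M.mul v e.c) M.one &&
      force (M.mul v (M.elc X D.n e.a)) fun v' => M.eqv (M.pw v' e.k) M.one

/-- check: two elements acting on an orbit -/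
noncomputable def pos (D : PcD) (X : ℕ → ℕ) (m A s₁ s₂ z c₁ w₁ c₂ w₂ : ℕ) : Bool :=
  M.ok c₁ w₁ && M.ok c₂ w₂ && M.actO D X c₁ m A s₁ && M.actO D X c₂ m A s₂ && M.act D X c₁ z z && M.act D X c₂ z z

/-- check: many conjugates -/
noncomputable def conjs (z m : ℕ) (C T : ℕ → ℕ) : Bool :=
  allB m fun k => M.ok (C k) 0 && M.ok (T k) 0 && M.eqv (M.mul (C k) z) (M.mul (T k) (C k)) &&
    allB k fun j => M.neq (T j) (T k)

variable {M}

theorem R_pw {c : ℕ} {g : G} (h : M.R c g) : ∀ m, M.R (M.pw c m) (g ^ m)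
  | 0 => by
    rw [pow_zero]
    exact M.R_one
  | m + 1 => by
    rw [pow_succ]
    exact M.R_mul (R_pw h m) h

theorem R_elc {X : ℕ → ℕ} {x : ℕ → G} (a : ℕ) : ∀ n, (∀ i, i < n → M.R (X i) (x i)) → M.R (M.elc X n a) (el x n a)
  | 0, _ => M.R_one
  | n + 1, h => by
    have h1 := R_elc a n fun i hi => h i (Nat.lt_succ_of_lt hi)
    have h2 : M.elc X (n + 1) a = bif tb a n then M.mul (M.elc X n a) (X n) else M.elc X n a := rfl
    rw [h2, el_succ]
    cases tb a n
    · exact h1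
    · exact M.R_mul h1 (h n (Nat.lt_succ_self _))

/-- The codes `X` stand for the generators `x`. -/
def RX (M : Mdl G) (D : PcD) (X : ℕ → ℕ) (x : ℕ → G) : Prop := ∀ i, i < D.n → M.R (X i) (x i)

variable {D : PcD} {X : ℕ → ℕ} {x : ℕ → G}

theorem exists_RX {W : ℕ → ℕ} (h : M.oks X W D.n = true) : ∃ x, M.RX D X x := by
  have h1 : ∀ i, ∃ g, i < D.n → M.R (X i) g := fun i => by
    by_cases hi : i < D.n
    · obtain ⟨g, hg⟩ := M.ex_of (allB_spec h hi)
      exact ⟨g, fun _ => hg⟩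
    · exact ⟨1, fun h2 => absurd h2 hi⟩
  choose x hx using h1
  exact ⟨x, hx⟩

theorem RX.el (hx : M.RX D X x) (a : ℕ) : M.R (M.elc X D.n a) (el x D.n a) := R_elc a _ hx

theorem RX.act (hx : M.RX D X x) {c a b : ℕ} {g : G} (hg : M.R c g) (h : M.act D X c a b = true) : Act D x g a b :=
  M.eq_of (M.R_mul hg (hx.el a)) (M.R_mul (hx.el b) hg) h

theorem RX.actO (hx : M.RX D X x) {c m A s : ℕ} {g : G} (hg : M.R c g) (h : M.actO D X c m A s = true) :
    ActO D x g m A s := fun _ hk => hx.act hg (allB_spec h hk)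

theorem RX.gen (hx : M.RX D X x) (hD : D.Ok) (h : M.rels D X = true) : ∃ S, Gen D S x := by
  unfold rels at h
  simp only [Bool.and_eq_true, List.all_eq_true] at h
  obtain ⟨⟨h1, h2⟩, h3⟩ := h
  have hR : Rel D x := ⟨fun i hi => M.eq_of (M.R_mul (hx i hi) (hx i hi)) (hx.el _) (allB_spec h1 hi),
    fun i j hij hj => M.eq_of (M.R_mul (hx j hj) (hx i (hij.trans hj))) (M.R_mul (hx i (hij.trans hj)) (hx.el _))
      (allB_spec (allB_spec h2 hj) hij)⟩
  exact ⟨_, hR.gen hD fun z hz => M.ne_of (hx.el z) M.R_one (h3 z hz)⟩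

theorem RX.cores (hx : M.RX D X x) {l : List CoreC} (h : M.cores D X l = true) :
    ∀ z ∈ D.zl, ∃ a b, a < D.N ∧ b < D.N ∧ IsConj (Real.el x D.n z) (Real.el x D.n a) ∧
      IsConj (Real.el x D.n z) (Real.el x D.n b) ∧ D.mul a b ≠ D.mul b a := by
  intro z hz
  unfold Mdl.cores at h
  rw [List.all_eq_true] at h
  have h1 := h z hz
  simp only [List.any_eq_true, Bool.and_eq_true] at h1
  obtain ⟨e, -, ⟨⟨⟨⟨⟨⟨-, h2⟩, h3⟩, h4⟩, h5⟩, h6⟩, h7⟩, h8⟩ := h1
  obtain ⟨g, hg⟩ := M.ex_of h5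
  obtain ⟨k, hk⟩ := M.ex_of h6
  exact ⟨e.a, e.b, blt_lt h2, blt_lt h3, (hx.act hg h7).isConj, (hx.act hk h8).isConj, nbeq_ne h4⟩

theorem tb_or_two_pow {K a b : ℕ} (h : tb (K ||| 2 ^ b) a = true) : tb K a = true ∨ b = a := by
  rwa [tb_eq, Nat.testBit_or, Bool.or_eq_true, Nat.testBit_two_pow, decide_eq_true_eq, ← tb_eq] at h

theorem RX.der (hx : M.RX D X x) {S : Subgroup G} (H : Gen D S x) {Q : Subgroup G}
    (hQ : ∀ a b, Real.el x D.n a ∈ Q → IsConj (Real.el x D.n a) (Real.el x D.n b) → Real.el x D.n b ∈ Q)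
    (l : List (ℕ × ℕ × ℕ)) : ∀ K : ℕ, (∀ a, tb K a = true → Real.el x D.n a ∈ Q) →
      ∀ a, tb (M.der D X l K) a = true → Real.el x D.n a ∈ Q := by
  induction l with
  | nil => exact fun K h => h
  | cons p l ih =>
    intro K h
    have h1 : M.der D X (p :: l) K = force K fun K => M.der D X l (bif tb K p.1 then
      bif Nat.beq p.2.2 0 then (bif tb K p.2.1 && Nat.blt p.1 (2 ^ D.n) then K ||| 2 ^ D.mul p.1 p.2.1 else K)
      else (bif M.ok p.2.2 0 && M.act D X p.2.2 p.1 p.2.1 then K ||| 2 ^ p.2.1 else K)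
      else K) := rfl
    rw [h1, force_eq]
    refine ih _ ?_
    cases h2 : tb K p.1
    · exact h
    cases Nat.beq p.2.2 0
    · cases h3 : (M.ok p.2.2 0 && M.act D X p.2.2 p.1 p.2.1)
      · exact h
      · intro a ha
        rw [Bool.and_eq_true] at h3
        obtain ⟨g, hg⟩ := M.ex_of h3.1
        rcases tb_or_two_pow ha with ha | rfl
        · exact h a ha
        · exact hQ _ _ (h _ h2) (hx.act hg h3.2).isConj
    · cases h3 : (tb K p.2.1 && Nat.blt p.1 (2 ^ D.n))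
      · exact h
      · intro a ha
        rw [Bool.and_eq_true] at h3
        rcases tb_or_two_pow ha with ha | rfl
        · exact h a ha
        · rw [← H.mul (blt_lt h3.2)]
          exact Q.mul_mem (h _ h2) (h _ h3.1)

theorem RX.ress (hx : M.RX D X x) {l : List ResC} (h : M.ress D X l = true) :
    ∀ a ∈ l.map ResC.a, Real.el x D.n a ∈ pResidual 2 G := by
  intro a ha
  obtain ⟨e, he, rfl⟩ := List.mem_map.1 ha
  unfold Mdl.ress at h
  rw [List.all_eq_true] at h
  have h1 := h e he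
  simp only [force_eq, Bool.and_eq_true] at h1
  obtain ⟨⟨⟨h2, h3⟩, h4⟩, h5, h6⟩ := h1
  obtain ⟨g, hg⟩ := M.ex_of h4
  have h7 : g ^ e.m' * g = 1 := M.eq_of (M.R_mul (R_pw hg _) hg) M.R_one h5
  have h8 : (g ^ e.m' * Real.el x D.n e.a) ^ e.k = 1 := M.eq_of (R_pw (M.R_mul (R_pw hg _) (hx.el _)) _) M.R_one h6
  have h9 : Real.el x D.n e.a = g * (g ^ e.m' * Real.el x D.n e.a) := by
    rw [← mul_assoc, ← pow_succ', pow_succ, h7, one_mul]
  rw [h9]
  refine Subgroup.mul_mem _ (mem_pResidual_of_pow (m := e.m' + 1) ?_ (by rw [pow_succ, h7]))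
    (mem_pResidual_of_pow (beq_eq h3) h8)
  have := beq_eq h2
  omega

theorem RX.pos (hx : M.RX D X x) {m A s₁ s₂ z : ℕ} (c₁ w₁ c₂ w₂ : ℕ) (h : M.pos D X m A s₁ s₂ z c₁ w₁ c₂ w₂ = true) :
    Pos D x m A s₁ s₂ z := by
  unfold Mdl.pos at h
  simp only [Bool.and_eq_true] at h
  obtain ⟨⟨⟨⟨⟨h1, h2⟩, h3⟩, h4⟩, h5⟩, h6⟩ := h
  obtain ⟨g₁, k₁⟩ := M.ex_of h1
  obtain ⟨g₂, k₂⟩ := M.ex_of h2
  exact ⟨g₁, g₂, hx.actO k₁ h3, hx.actO k₂ h4, hx.act k₁ h5, hx.act k₂ h6⟩

/-- **Realisation from certificates.** -/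
theorem RX.rz [Finite G] (hx : M.RX D X x) (hD : D.Ok) {m : ℕ} (hm : Nat.card G = 2 ^ D.n * m) (ho : ¬ 2 ∣ m)
    (h1 : M.rels D X = true) {lc : List CoreC} (h2 : M.cores D X lc = true) {lr : List ResC}
    (h3 : M.ress D X lr = true) {l : List (ℕ × ℕ)} (h4 : D.gens (lr.map ResC.a) l = true) : Rz D G x := by
  obtain ⟨S, H⟩ := hx.gen hD h1
  exact rz_of H hm ho (hx.cores h2) fun i hi => H.gens h4 (hx.ress h3) hi

theorem RX.rz' [Finite G] (hx : M.RX D X x) (hD : D.Ok) {m : ℕ} (hm : Nat.card G = 2 ^ D.n * m) (ho : ¬ 2 ∣ m)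
    (h1 : M.rels D X = true) {lc : List (ℕ × ℕ × ℕ)} {e : List (ℕ × ℕ)} (h2 : M.cores' D X lc e = true)
    {lr : List ResC} (h3 : M.ress D X lr = true) {l : List (ℕ × ℕ)} (h4 : D.gens (lr.map ResC.a) l = true) :
    Rz D G x := by
  obtain ⟨S, H⟩ := hx.gen hD h1
  refine rz_of' H hm ho (fun z hz Q hQ hzQ => ?_) fun i hi => H.gens h4 (hx.ress h3) hi
  unfold cores' at h2
  have h5 := List.all_eq_true.1 h2 z hz
  simp only [force_eq, List.any_eq_true, Bool.and_eq_true] at h5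
  obtain ⟨p, -, ⟨⟨⟨h6, h7⟩, h8⟩, h9⟩, h10⟩ := h5
  have h11 := hx.der H hQ lc (2 ^ z) fun a ha => by
    rw [tb_eq, Nat.testBit_two_pow, decide_eq_true_eq] at ha
    rw [← ha]
    exact hzQ
  exact ⟨p.1, p.2, blt_lt h8, blt_lt h9, h11 _ h6, h11 _ h7, nbeq_ne h10⟩

theorem conjs_le [Finite G] {z m : ℕ} {C T : ℕ → ℕ} {g : G} (hg : M.R z g) (h : M.conjs z m C T = true) :
    m * Nat.card (Subgroup.centralizer {g} : Subgroup G) ≤ Nat.card G := by
  have h1 : ∀ k, k < m → M.ok (C k) 0 = true ∧ M.ok (T k) 0 = true ∧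
      M.eqv (M.mul (C k) z) (M.mul (T k) (C k)) = true ∧ ∀ j, j < k → M.neq (T j) (T k) = true := by
    intro k hk
    have h2 := allB_spec h hk
    simp only [Bool.and_eq_true] at h2
    exact ⟨h2.1.1.1, h2.1.1.2, h2.1.2, fun j hj => allB_spec h2.2 hj⟩
  have h2 : ∀ k, ∃ t, k < m → M.R (T k) t := fun k => by
    by_cases hk : k < m
    · obtain ⟨t, ht⟩ := M.ex_of (h1 k hk).2.1
      exact ⟨t, fun _ => ht⟩
    · exact ⟨1, fun h2 => absurd h2 hk⟩
  choose t ht using h2
  refine conj_mul_le (t := t) (fun j k hj hk => M.ne_of (ht j (hj.trans hk)) (ht k hk) ((h1 k hk).2.2.2 j hj))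
    fun k hk => ?_
  obtain ⟨c, hc⟩ := M.ex_of (h1 k hk).1
  refine isConj_iff.2 ⟨c, ?_⟩
  rw [M.eq_of (M.R_mul hc hg) (M.R_mul (ht k hk) hc) (h1 k hk).2.2.1, mul_inv_cancel_right]

/-! ### products -/

/-- The codes of products have at most `W` bits. -/
def Bd (M : Mdl G) (W : ℕ) : Prop := M.one < 2 ^ W ∧ ∀ a b, M.mul a b < 2 ^ W

theorem pair_mod {W a : ℕ} (h : a < 2 ^ W) (b : ℕ) : (a + 2 ^ W * b) % 2 ^ W = a := by
  rw [Nat.add_mul_mod_self_left, Nat.mod_eq_of_lt h]

theorem pair_div {W a : ℕ} (h : a < 2 ^ W) (b : ℕ) : (a + 2 ^ W * b) >>> W = b := by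
  rw [Nat.shiftRight_eq_div_pow, Nat.add_mul_div_left _ _ (Nat.two_pow_pos W), Nat.div_eq_of_lt h, Nat.zero_add]

/-- The model of a direct product: the first component takes the `W` low bits. -/
noncomputable def prod {G₁ G₂ : Type} [Group G₁] [Group G₂] (M₁ : Mdl G₁) (M₂ : Mdl G₂) (W : ℕ) (hW : M₁.Bd W) :
    Mdl (G₁ × G₂) where
  R c g := M₁.R (c % 2 ^ W) g.1 ∧ M₂.R (c >>> W) g.2
  mul c d := force c fun c => force d fun d => M₁.mul (c % 2 ^ W) (d % 2 ^ W) + 2 ^ W * M₂.mul (c >>> W) (d >>> W)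
  one := M₁.one + 2 ^ W * M₂.one
  eqv c d := force c fun c => force d fun d => M₁.eqv (c % 2 ^ W) (d % 2 ^ W) && M₂.eqv (c >>> W) (d >>> W)
  neq c d := force c fun c => force d fun d => M₁.neq (c % 2 ^ W) (d % 2 ^ W) || M₂.neq (c >>> W) (d >>> W)
  ok c w := M₁.ok (c % 2 ^ W) (w % 2 ^ W) && M₂.ok (c >>> W) (w >>> W)
  R_one := by
    rw [pair_mod hW.1, pair_div hW.1]
    exact ⟨M₁.R_one, M₂.R_one⟩
  R_mul := by
    intro a b g h ha hb
    rw [force_eq, force_eq, pair_mod (hW.2 _ _), pair_div (hW.2 _ _)]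
    exact ⟨M₁.R_mul ha.1 hb.1, M₂.R_mul ha.2 hb.2⟩
  eq_of := by
    intro a b g h ha hb he
    rw [force_eq, force_eq, Bool.and_eq_true] at he
    exact Prod.ext (M₁.eq_of ha.1 hb.1 he.1) (M₂.eq_of ha.2 hb.2 he.2)
  ne_of := by
    intro a b g h ha hb he hgh
    rw [force_eq, force_eq, Bool.or_eq_true] at he
    rcases he with he | he
    · exact M₁.ne_of ha.1 hb.1 he (congrArg Prod.fst hgh)
    · exact M₂.ne_of ha.2 hb.2 he (congrArg Prod.snd hgh)
  ex_of := by
    intro a w h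
    rw [Bool.and_eq_true] at h
    obtain ⟨g, hg⟩ := M₁.ex_of h.1
    obtain ⟨k, hk⟩ := M₂.ex_of h.2
    exact ⟨(g, k), hg, hk⟩

end Mdl

/-! ### central quotients -/

/-- A central element `ζ` of order `2 ^ (e + 1)` with the code `c`. -/
structure CZ {G : Type} [Group G] (M : Mdl G) (c e : ℕ) where
  /-- the element -/
  ζ : G
  comm : ∀ g, ζ * g = g * ζ
  R : M.R c ζ
  pow : ζ ^ 2 ^ (e + 1) = 1
  ne : ζ ^ 2 ^ e ≠ 1

namespace CZ

variable {G : Type} [Group G] {M : Mdl G} {c e : ℕ} (Z : CZ M c e)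

/-- the central subgroup -/
def sub : Subgroup G := Subgroup.zpowers Z.ζ

instance normal : Z.sub.Normal := ⟨by
  rintro _ ⟨k, rfl⟩ g
  have h : Commute Z.ζ g := Z.comm g
  show g * Z.ζ ^ k * g⁻¹ ∈ Z.sub
  rw [← (h.zpow_left k).eq, mul_inv_cancel_right]
  exact ⟨k, rfl⟩⟩

theorem orderOf_eq : orderOf Z.ζ = 2 ^ (e + 1) :=
  haveI : Fact (Nat.Prime 2) := ⟨Nat.prime_two⟩
  orderOf_eq_prime_pow Z.ne Z.pow

theorem card : Nat.card (G ⧸ Z.sub) * 2 ^ (e + 1) = Nat.card G := by
  rw [Subgroup.card_eq_card_quotient_mul_card_subgroup Z.sub, ← Z.orderOf_eq, ← Nat.card_zpowers]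
  rfl

theorem mk_pow_mul (k : ℕ) (g : G) : ((Z.ζ ^ k * g : G) : G ⧸ Z.sub) = g := by
  have h : ((Z.ζ ^ k : G) : G ⧸ Z.sub) = 1 :=
    (QuotientGroup.eq_one_iff _).2 (Subgroup.pow_mem _ (Subgroup.mem_zpowers _) k)
  rw [QuotientGroup.mk_mul, h, one_mul]

theorem exists_pow {g h : G} (H : (g : G ⧸ Z.sub) = h) : ∃ k, k < 2 ^ (e + 1) ∧ g = Z.ζ ^ k * h := by
  have h1 : g * h⁻¹ ∈ Z.sub := by
    rw [← QuotientGroup.eq_one_iff, QuotientGroup.mk_mul, QuotientGroup.mk_inv, H, mul_inv_cancel]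
  have h2 : IsOfFinOrder Z.ζ := by
    rw [← orderOf_pos_iff, Z.orderOf_eq]
    exact Nat.two_pow_pos _
  obtain ⟨k, hk⟩ := (h2.mem_powers_iff_mem_zpowers).2 h1
  have hk' : Z.ζ ^ k = g * h⁻¹ := hk
  refine ⟨k % 2 ^ (e + 1), Nat.mod_lt _ (Nat.two_pow_pos _), ?_⟩
  rw [← Z.orderOf_eq, pow_mod_orderOf, hk', inv_mul_cancel_right]

/-- The model of the quotient. -/
noncomputable def mdl : Mdl (G ⧸ Z.sub) where
  R a g := ∃ h : G, M.R a h ∧ (h : G ⧸ Z.sub) = g
  mul := M.mul
  one := M.one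
  eqv a b := force a fun a => force b fun b => anyB (2 ^ (e + 1)) fun k => M.eqv a (M.mul (M.pw c k) b)
  neq a b := force a fun a => force b fun b => allB (2 ^ (e + 1)) fun k => M.neq a (M.mul (M.pw c k) b)
  ok := M.ok
  R_one := ⟨1, M.R_one, rfl⟩
  R_mul := by
    rintro a b _ _ ⟨g, hg, rfl⟩ ⟨h, hh, rfl⟩
    exact ⟨g * h, M.R_mul hg hh, rfl⟩
  eq_of := by
    rintro a b _ _ ⟨g, hg, rfl⟩ ⟨h, hh, rfl⟩ he
    rw [force_eq, force_eq] at he
    obtain ⟨k, -, hk⟩ := anyB_spec he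
    rw [M.eq_of hg (M.R_mul (Mdl.R_pw Z.R k) hh) hk, Z.mk_pow_mul]
  ne_of := by
    rintro a b _ _ ⟨g, hg, rfl⟩ ⟨h, hh, rfl⟩ he hgh
    rw [force_eq, force_eq] at he
    obtain ⟨k, hk, h1⟩ := Z.exists_pow hgh
    exact M.ne_of hg (M.R_mul (Mdl.R_pw Z.R k) hh) (allB_spec he hk) h1
  ex_of := by
    intro a w h
    obtain ⟨g, hg⟩ := M.ex_of h
    exact ⟨g, g, hg, rfl⟩

theorem bd {W : ℕ} (h : M.Bd W) : Z.mdl.Bd W := h

theorem card_eq {N m : ℕ} (h : Nat.card G = N) (hm : N = m * 2 ^ (e + 1)) : Nat.card (G ⧸ Z.sub) = m := by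
  have h1 := Z.card
  rw [h, hm] at h1
  exact Nat.eq_of_mul_eq_mul_right (Nat.two_pow_pos _) h1

end CZ

/-- The central element from a check. -/
noncomputable def Mdl.cz {G : Type} [Group G] (M : Mdl G) (c e : ℕ) (hc : ∀ g, M.R c g → ∀ h, g * h = h * g)
    (h : (M.ok c 0 && M.eqv (M.pw c (2 ^ (e + 1))) M.one && M.neq (M.pw c (2 ^ e)) M.one) = true) : CZ M c e :=
  have h1 : M.ok c 0 = true ∧ M.eqv (M.pw c (2 ^ (e + 1))) M.one = true ∧ M.neq (M.pw c (2 ^ e)) M.one = true := by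
    simp only [Bool.and_eq_true] at h
    exact ⟨h.1.1, h.1.2, h.2⟩
  have h2 := Classical.choose_spec (M.ex_of h1.1)
  ⟨Classical.choose (M.ex_of h1.1), hc _ h2, h2, M.eq_of (Mdl.R_pw h2 _) M.R_one h1.2.1,
    M.ne_of (Mdl.R_pw h2 _) M.R_one h1.2.2⟩

end Cfsg.Agent.FS.Real
end
end

-- part: FS/Real/Mat
section
prune_inst 0x42200000000000022000000300000000000000000000102014080000040000008000000000400001800000001100000020000000a000000000000000000000000100000000000000004000000000000000000000000000000000000000000000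
set_option linter.all false
open scoped Cfsg.Agent.FastGrp

/-!
# Matrix models (helper83, project FS, part C)
-/

set_option autoImplicit false

namespace Cfsg.Agent.FS.Real

open Matrix

/-- A computable model of a commutative ring; reduced codes have `w` bits. -/
structure RM (F : Type) [CommRing F] where
  /-- value -/
  val : ℕ → F
  /-- width -/
  w : ℕ
  /-- `r + a * b` -/
  fma : ℕ → ℕ → ℕ → ℕ
  /-- reduction -/
  nrm : ℕ → ℕ
  /-- the code of `-1` -/
  m1 : ℕ
  val_zero : val 0 = 0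
  val_one : val 1 = 1
  val_m1 : val m1 = -1
  val_fma : ∀ r a b, val (fma r a b) = val r + val a * val b
  val_nrm : ∀ a, val (nrm a) = val a
  nrm_lt : ∀ a, nrm a < 2 ^ w
  one_lt : 1 < 2 ^ w
  nrm_eq : ∀ {a b}, val a = val b → nrm a = nrm b

/-- The integers modulo `p`. -/
def rmZ (p w : ℕ) (hp : 1 < p) (hw : p ≤ 2 ^ w) : RM (ZMod p) where
  val a := (a : ZMod p)
  w := w
  fma r a b := r + a * b
  nrm a := a % p
  m1 := p - 1
  val_zero := Nat.cast_zero
  val_one := Nat.cast_one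
  val_m1 := by
    rw [Nat.cast_sub hp.le, ZMod.natCast_self, Nat.cast_one, zero_sub]
  val_fma r a b := by rw [Nat.cast_add, Nat.cast_mul]
  val_nrm a := ZMod.natCast_mod a p
  nrm_lt a := (Nat.mod_lt _ (by omega)).trans_le hw
  one_lt := hp.trans_le hw
  nrm_eq h := (ZMod.natCast_eq_natCast_iff' _ _ _).1 h

theorem cast_mod_two {F : Type} [CommRing F] (h2 : (2 : F) = 0) (a : ℕ) : ((a % 2 : ℕ) : F) = a := by
  conv_rhs => rw [← Nat.mod_add_div a 2]
  rw [Nat.cast_add, Nat.cast_mul, Nat.cast_two, h2, zero_mul, add_zero]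

/-- The field with four elements. -/
def rm4 {F : Type} [Field F] (h2 : (2 : F) = 0) (ω : F) (hω : ω * ω = ω + 1) : RM F where
  val a := ((a % 2 : ℕ) : F) + ((a / 2 : ℕ) : F) * ω
  w := 2
  fma r a b := (r + a % 2 * b + a / 2 * (b / 2)) % 2 + 2 * (r / 2 + a % 2 * (b / 2) + a / 2 * (b % 2 + b / 2))
  nrm a := a % 4
  m1 := 1
  val_zero := by simp
  val_one := by simp
  val_m1 := by
    rw [show (1 % 2 : ℕ) = 1 from rfl, show (1 / 2 : ℕ) = 0 from rfl, Nat.cast_one, Nat.cast_zero]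
    linear_combination h2
  val_fma r a b := by
    rw [Nat.add_mul_mod_self_left, Nat.mod_mod, Nat.add_mul_div_left _ _ (by norm_num : 0 < 2),
      Nat.div_eq_of_lt (Nat.mod_lt _ (by norm_num)), Nat.zero_add, cast_mod_two h2]
    push_cast
    simp only [cast_mod_two h2]
    linear_combination (-((a / 2 : ℕ) : F) * ((b / 2 : ℕ) : F)) * hω
  val_nrm a := by
    rw [show a % 4 % 2 = a % 2 by omega, show a % 4 / 2 = a / 2 % 2 by omega, cast_mod_two h2 (a / 2)]
  nrm_lt a := Nat.mod_lt _ (by norm_num)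
  one_lt := by norm_num
  nrm_eq := by
    intro a b h
    have h0 : ω ≠ 0 := by
      rintro rfl
      simp at hω
    have h1 : ω ≠ 1 := by
      rintro rfl
      simp at hω
    have h3 : (1 : F) + 1 = 0 := by rw [← h2]; norm_num
    rw [← cast_mod_two h2 (a / 2), ← cast_mod_two h2 (b / 2)] at h
    have key : a % 2 = b % 2 ∧ a / 2 % 2 = b / 2 % 2 := by
      rcases Nat.mod_two_eq_zero_or_one a with a0 | a0 <;> rcases Nat.mod_two_eq_zero_or_one b with b0 | b0 <;>
        rcases Nat.mod_two_eq_zero_or_one (a / 2) with a1 | a1 <;>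
        rcases Nat.mod_two_eq_zero_or_one (b / 2) with b1 | b1 <;> rw [a0, b0, a1, b1] at h ⊢ <;>
        simp only [Nat.cast_zero, Nat.cast_one, zero_mul, one_mul, add_zero, zero_add] at h <;>
        [exact ⟨rfl, rfl⟩; exact absurd h.symm h0; exact absurd h h0; exact ⟨rfl, rfl⟩; exact absurd h zero_ne_one;
         (exact absurd (show ω = 1 by linear_combination -h - h3) h1); exact absurd h h1;
         (exact absurd (show (1 : F) = 0 by linear_combination -h) one_ne_zero); exact absurd h one_ne_zero; exact absurd h.symm h1;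
         (exact absurd (show ω = 1 by linear_combination h - h3) h1); (exact absurd (show (1 : F) = 0 by linear_combination h) one_ne_zero); exact ⟨rfl, rfl⟩;
         (exact absurd (show ω = 0 by linear_combination -h) h0); (exact absurd (show ω = 0 by linear_combination h) h0); exact ⟨rfl, rfl⟩]
    omega

theorem exists_omega : ∃ ω : GaloisField 2 2, ω * ω = ω + 1 := by
  have hc : Nat.card (GaloisField 2 2) = 2 ^ 2 := GaloisField.card 2 2 (by norm_num)
  have := Fintype.ofFinite (GaloisField 2 2)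
  have hc' : Fintype.card (GaloisField 2 2) = 4 := by rw [← Nat.card_eq_fintype_card, hc]; rfl
  have h2 : (2 : GaloisField 2 2) = 0 := CharP.cast_eq_zero (GaloisField 2 2) 2
  classical
  obtain ⟨ω, -, h⟩ := Finset.exists_mem_notMem_of_card_lt_card
    (s := ({0, 1} : Finset (GaloisField 2 2))) (t := Finset.univ) (by
      rw [Finset.card_univ, hc']
      exact (Finset.card_le_two).trans_lt (by norm_num))
  rw [Finset.mem_insert, Finset.mem_singleton, not_or] at h
  have h3 := FiniteField.pow_card ω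
  rw [hc'] at h3
  have h4 : ω * (ω - 1) * (ω * ω + ω + 1) = 0 := by linear_combination h3
  refine ⟨ω, ?_⟩
  rcases mul_eq_zero.1 h4 with h5 | h5
  · rcases mul_eq_zero.1 h5 with h6 | h6
    · exact absurd h6 h.1
    · exact absurd (sub_eq_zero.1 h6) h.2
  · linear_combination h5 - (ω + 1) * h2

/-- The model of the field with four elements. -/
noncomputable def rmF4 : RM (GaloisField 2 2) :=
  rm4 (CharP.cast_eq_zero (GaloisField 2 2) 2) (Classical.choose exists_omega) (Classical.choose_spec exists_omega)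

/-- packing -/
noncomputable def pack (w N : ℕ) (f : ℕ → ℕ) : ℕ := Nat.rec 0 (fun k r => r + 2 ^ (w * k) * f k) N

theorem pack_succ (w N : ℕ) (f : ℕ → ℕ) : pack w (N + 1) f = pack w N f + 2 ^ (w * N) * f N := rfl

theorem pack_lt {w : ℕ} {f : ℕ → ℕ} (hf : ∀ k, f k < 2 ^ w) : ∀ N, pack w N f < 2 ^ (w * N)
  | 0 => Nat.two_pow_pos _
  | N + 1 => by
    have h1 := pack_lt hf N
    have h2 : 2 ^ (w * N) * (f N + 1) ≤ 2 ^ (w * N) * 2 ^ w := Nat.mul_le_mul_left _ (hf N)
    rw [pack_succ, Nat.mul_succ, pow_add]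
    rw [Nat.mul_succ] at h2
    omega

theorem get_pack {w : ℕ} {f : ℕ → ℕ} (hf : ∀ k, f k < 2 ^ w) {k : ℕ} : ∀ N, k < N → get w (pack w N f) k = f k
  | 0, h => by omega
  | N + 1, h => by
    rw [pack_succ]
    rcases Nat.lt_succ_iff_lt_or_eq.1 h with h1 | h1
    · rw [← get_pack hf N h1]
      obtain ⟨d, rfl⟩ := Nat.exists_eq_add_of_lt h1
      unfold get
      rw [Nat.shiftRight_eq_div_pow, Nat.shiftRight_eq_div_pow,
        show 2 ^ (w * (k + d + 1)) * f (k + d + 1) = 2 ^ (w * k) * (2 ^ w * (2 ^ (w * d) * f (k + d + 1))) by ring,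
        Nat.add_mul_div_left _ _ (Nat.two_pow_pos _), Nat.add_mul_mod_self_left]
    · subst h1
      unfold get
      rw [Nat.shiftRight_eq_div_pow, Nat.add_mul_div_left _ _ (Nat.two_pow_pos _), Nat.div_eq_of_lt (pack_lt hf k),
        Nat.zero_add, Nat.mod_eq_of_lt (hf k)]

namespace RM

variable {F : Type} [CommRing F] (K : RM F)

/-- entries -/
def ent (n c i j : ℕ) : ℕ := get K.w c (n * i + j)

/-- the places of the entries which are not zero -/
noncomputable def nzs (n : ℕ) (u : ℕ → ℕ) : List ℕ := Nat.rec [] (fun k r => Nat.rec r (fun _ _ => k :: r) (u k)) n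

/-- sums of products -/
noncomputable def dot (n : ℕ) (u v : ℕ → ℕ) : ℕ :=
  List.rec 0 (fun k _ r => Nat.rec r (fun b _ => force r fun r => force (u k) fun a => K.fma r a (Nat.succ b)) (v k))
    (nzs n u)

theorem val_dot (u v : ℕ → ℕ) : ∀ n, K.val (K.dot n u v) = ∑ k ∈ Finset.range n, K.val (u k) * K.val (v k)
  | 0 => K.val_zero
  | n + 1 => by
    rw [Finset.sum_range_succ, ← val_dot u v n]
    have h : nzs (n + 1) u = Nat.rec (nzs n u) (fun _ _ => n :: nzs n u) (u n) := rfl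
    rw [dot, h]
    cases h1 : u n with
    | zero => rw [K.val_zero, zero_mul, add_zero]; rfl
    | succ a =>
      show K.val (Nat.rec (K.dot n u v) (fun b _ => force (K.dot n u v) fun r => force (u n) fun a =>
        K.fma r a (Nat.succ b)) (v n)) = _
      cases v n with
      | zero => rw [K.val_zero, mul_zero, add_zero]; rfl
      | succ b =>
        show K.val (force (K.dot n u v) fun r => force (u n) fun a => K.fma r a (Nat.succ b)) = _
        rw [force_eq, force_eq, K.val_fma, h1]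

/-- the matrix with the given entries -/
noncomputable def mk' (n : ℕ) (f : ℕ → ℕ → ℕ) : ℕ :=
  pack K.w (n * n) fun k => force (k / n) fun i => force (k % n) fun j => K.nrm (f i j)

theorem mk'_lt (n : ℕ) (f : ℕ → ℕ → ℕ) : K.mk' n f < 2 ^ (K.w * (n * n)) :=
  pack_lt (fun k => by rw [force_eq, force_eq]; exact K.nrm_lt _) _

theorem ent_mk' {n i j : ℕ} (f : ℕ → ℕ → ℕ) (hi : i < n) (hj : j < n) : K.ent n (K.mk' n f) i j = K.nrm (f i j) := by
  unfold ent mk'
  rw [get_pack (fun k => by rw [force_eq, force_eq]; exact K.nrm_lt _) _ (by nlinarith), force_eq, force_eq,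
    Nat.mul_add_div (by omega), Nat.div_eq_of_lt hj, Nat.add_zero, Nat.mul_add_mod, Nat.mod_eq_of_lt hj]

/-- product -/
noncomputable def mmul (n a b : ℕ) : ℕ :=
  force a fun a => force b fun b => K.mk' n fun i j => K.dot n (fun k => K.ent n a i k) fun k => K.ent n b k j

/-- transpose -/
noncomputable def mtr (n a : ℕ) : ℕ := force a fun a => K.mk' n fun i j => K.ent n a j i

/-- scalar matrices -/
noncomputable def msc (n s : ℕ) : ℕ := K.mk' n fun i j => bif Nat.beq i j then s else 0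

/-- inequality -/
noncomputable def mne (n a b : ℕ) : Bool :=
  force a fun a => force b fun b => anyB n fun i => anyB n fun j =>
    !Nat.beq (K.nrm (K.ent n a i j)) (K.nrm (K.ent n b i j))

variable {ι : Type} {n : ℕ} (e : ι ≃ Fin n)

/-- the matrix of a code -/
def toM (c : ℕ) : Matrix ι ι F := Matrix.of fun i j => K.val (K.ent n c (e i) (e j))

theorem toM_mk' (f : ℕ → ℕ → ℕ) (i j : ι) : K.toM e (K.mk' n f) i j = K.val (f (e i) (e j)) := by
  show K.val _ = _
  rw [K.ent_mk' f (e i).2 (e j).2, K.val_nrm]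

theorem toM_mmul [Fintype ι] (a b : ℕ) : K.toM e (K.mmul n a b) = K.toM e a * K.toM e b := by
  ext i j
  unfold mmul
  rw [force_eq, force_eq, toM_mk', val_dot, Matrix.mul_apply, ← Fin.sum_univ_eq_sum_range
    (fun k => K.val (K.ent n a (e i) k) * K.val (K.ent n b k (e j))), ← Equiv.sum_comp e]
  rfl

theorem toM_mtr (a : ℕ) : K.toM e (K.mtr n a) = (K.toM e a)ᵀ := by
  ext i j
  unfold mtr
  rw [force_eq, toM_mk']
  rfl

theorem toM_msc [Fintype ι] [DecidableEq ι] (s : ℕ) : K.toM e (K.msc n s) = Matrix.scalar ι (K.val s) := by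
  ext i j
  unfold msc
  rw [toM_mk', Matrix.scalar_apply, Matrix.diagonal_apply]
  by_cases h : i = j
  · rw [if_pos h, h, Nat.beq_refl, cond_true]
  · have h1 : Nat.beq (e i) (e j) = false := by
      cases h2 : Nat.beq (e i) (e j)
      · rfl
      · exact absurd (e.injective (Fin.ext (beq_eq h2))) h
    rw [if_neg h, h1, cond_false, K.val_zero]

theorem toM_one [Fintype ι] [DecidableEq ι] : K.toM e (K.msc n 1) = 1 := by
  rw [toM_msc, K.val_one, map_one]

theorem toM_ne {a b : ℕ} (h : K.mne n a b = true) : K.toM e a ≠ K.toM e b := by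
  intro h1
  unfold mne at h
  rw [force_eq, force_eq] at h
  obtain ⟨i, hi, h⟩ := anyB_spec h
  obtain ⟨j, hj, h⟩ := anyB_spec h
  have h2 : K.val (K.ent n a (e (e.symm ⟨i, hi⟩)) (e (e.symm ⟨j, hj⟩))) =
      K.val (K.ent n b (e (e.symm ⟨i, hi⟩)) (e (e.symm ⟨j, hj⟩))) :=
    congrFun (congrFun h1 (e.symm ⟨i, hi⟩)) (e.symm ⟨j, hj⟩)
  rw [e.apply_symm_apply, e.apply_symm_apply] at h2
  exact nbeq_ne h (K.nrm_eq h2)

/-- The model of a group of matrices. -/
noncomputable def mdl [Fintype ι] [DecidableEq ι] {G : Type} [Group G] (φ : G →* Matrix ι ι F)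
    (hφ : Function.Injective φ) (ok : ℕ → ℕ → Bool) (hok : ∀ a w, ok a w = true → ∃ g, φ g = K.toM e a) : Mdl G where
  R c g := φ g = K.toM e c
  mul := K.mmul n
  one := K.msc n 1
  eqv := Nat.beq
  neq := K.mne n
  ok := ok
  R_one := by rw [map_one, toM_one]
  R_mul := by
    intro a b g h ha hb
    rw [map_mul, toM_mmul, ha, hb]
  eq_of := by
    intro a b g h ha hb he
    rw [beq_eq he, ← hb] at ha
    exact hφ ha
  ne_of := by
    intro a b g h ha hb he hgh
    exact K.toM_ne e he (by rw [← ha, ← hb, hgh])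
  ex_of := fun h => hok _ _ h

theorem mdl_bd [Fintype ι] [DecidableEq ι] {G : Type} [Group G] (φ : G →* Matrix ι ι F)
    (hφ : Function.Injective φ) (ok : ℕ → ℕ → Bool) (hok : ∀ a w, ok a w = true → ∃ g, φ g = K.toM e a) :
    (K.mdl e φ hφ ok hok).Bd (K.w * (n * n)) := by
  refine ⟨K.mk'_lt _ _, fun a b => ?_⟩
  show K.mmul n a b < _
  unfold mmul
  rw [force_eq, force_eq]
  exact K.mk'_lt _ _

theorem mdl_comm [Fintype ι] [DecidableEq ι] {G : Type} [Group G] (φ : G →* Matrix ι ι F)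
    (hφ : Function.Injective φ) (ok : ℕ → ℕ → Bool) (hok : ∀ a w, ok a w = true → ∃ g, φ g = K.toM e a) {c s : ℕ}
    (hc : Nat.beq c (K.msc n s) = true) (g : G) (hg : (K.mdl e φ hφ ok hok).R c g) (h : G) : g * h = h * g := by
  have h1 : φ g = K.toM e c := hg
  apply hφ
  rw [map_mul, map_mul, h1, beq_eq hc, toM_msc]
  exact (Matrix.scalar_commute _ (fun _ => Commute.all _ _) _).eq

/-! ### determinants -/

/-- Laplace expansion -/
noncomputable def det (n : ℕ) : (ℕ → ℕ → ℕ) → ℕ :=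
  Nat.rec (fun _ => 1) (fun n r A => K.nrm (K.dot (n + 1)
    (fun j => bif Nat.beq (j % 2) 0 then A 0 j else K.fma 0 K.m1 (A 0 j))
    fun j => r fun i k => A (i + 1) (bif Nat.blt k j then k else k + 1))) n

theorem val_det : ∀ (n : ℕ) (A : ℕ → ℕ → ℕ),
    K.val (K.det n A) = Matrix.det (Matrix.of fun i j : Fin n => K.val (A i j))
  | 0, _ => by
    rw [Matrix.det_fin_zero]
    exact K.val_one
  | n + 1, A => by
    have h1 : K.det (n + 1) A = K.nrm (K.dot (n + 1)
      (fun j => bif Nat.beq (j % 2) 0 then A 0 j else K.fma 0 K.m1 (A 0 j))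
      fun j => K.det n fun i k => A (i + 1) (bif Nat.blt k j then k else k + 1)) := rfl
    rw [h1, K.val_nrm, val_dot, Matrix.det_succ_row_zero, ← Fin.sum_univ_eq_sum_range
      (fun j => K.val (bif Nat.beq (j % 2) 0 then A 0 j else K.fma 0 K.m1 (A 0 j)) *
        K.val (K.det n fun i k => A (i + 1) (bif Nat.blt k j then k else k + 1)))]
    refine Finset.sum_congr rfl fun j _ => ?_
    rw [val_det n]
    congr 1
    · rcases Nat.mod_two_eq_zero_or_one j with h | h
      · rw [h, Even.neg_one_pow (Nat.even_iff.2 h), one_mul]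
        rfl
      · rw [h, Odd.neg_one_pow (Nat.odd_iff.2 h)]
        show K.val (K.fma 0 K.m1 (A 0 j)) = _
        rw [K.val_fma, K.val_zero, K.val_m1, zero_add]
        rfl
    · congr 1
      ext i k
      show K.val (A (i + 1) _) = K.val (A (i + 1) (j.succAbove k))
      congr 2
      by_cases h : (k : ℕ) < j
      · rw [Nat.blt_eq.mpr h, cond_true, Fin.succAbove_of_castSucc_lt _ _ h]
        rfl
      · have h2 : Nat.blt k j = false := by
          cases h3 : Nat.blt k j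
          · rfl
          · exact absurd (blt_lt h3) h
        rw [h2, cond_false, Fin.succAbove_of_le_castSucc _ _ (not_lt.1 h)]
        rfl

/-- The model of `SL n`. -/
noncomputable def mSL (n : ℕ) : Mdl (Matrix.SpecialLinearGroup (Fin n) F) :=
  K.mdl (Equiv.refl _) Matrix.SpecialLinearGroup.coeMonoidHom Subtype.val_injective
    (fun a _ => force a fun a => Nat.beq (K.det n (K.ent n a)) 1) fun a _ h => by
      rw [force_eq] at h
      refine ⟨⟨K.toM (Equiv.refl _) a, ?_⟩, rfl⟩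
      have h1 := K.val_det n (K.ent n a)
      rw [beq_eq h, K.val_one] at h1
      exact h1.symm

theorem exists_unit [Fintype ι] [DecidableEq ι] {a w : ℕ} (h : Nat.beq (K.mmul n a w) (K.msc n 1) = true) :
    ∃ g : GL ι F, (g : Matrix ι ι F) = K.toM e a := by
  have h1 : K.toM e a * K.toM e w = 1 := by rw [← toM_mmul, beq_eq h, toM_one]
  exact ⟨⟨K.toM e a, K.toM e w, h1, mul_eq_one_comm.1 h1⟩, rfl⟩

/-- the symplectic form -/
noncomputable def mJ (m : ℕ) : ℕ :=
  K.mk' (m + m) fun i j => bif Nat.beq (i + m) j then K.m1 else bif Nat.beq i (j + m) then 1 else 0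

theorem beq_false {a b : ℕ} (h : a ≠ b) : Nat.beq a b = false := by
  cases h2 : Nat.beq a b
  · rfl
  · exact absurd (beq_eq h2) h

theorem toM_mJ (m : ℕ) : K.toM finSumFinEquiv (K.mJ m) = Matrix.J (Fin m) F := by
  ext i j
  unfold mJ
  rw [toM_mk']
  unfold Matrix.J
  rcases i with i | i <;> rcases j with j | j
  · have hi := i.2
    have hj := j.2
    rw [finSumFinEquiv_apply_left, finSumFinEquiv_apply_left, Fin.val_castAdd, Fin.val_castAdd, beq_false (by omega),
      beq_false (by omega), cond_false, cond_false, K.val_zero]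
    rfl
  · have hi := i.2
    rw [finSumFinEquiv_apply_left, finSumFinEquiv_apply_right, Fin.val_castAdd, Fin.val_natAdd,
      Matrix.fromBlocks_apply₁₂, Matrix.neg_apply, Matrix.one_apply]
    by_cases h : i = j
    · rw [if_pos h, h, Nat.add_comm, Nat.beq_refl, cond_true, K.val_m1]
    · have h1 : (i : ℕ) ≠ j := fun h2 => h (Fin.ext h2)
      rw [if_neg h, beq_false (by omega), beq_false (by omega), cond_false, cond_false, K.val_zero, neg_zero]
  · have hj := j.2
    rw [finSumFinEquiv_apply_left, finSumFinEquiv_apply_right, Fin.val_castAdd, Fin.val_natAdd,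
      Matrix.fromBlocks_apply₂₁, Matrix.one_apply, beq_false (by omega), cond_false]
    by_cases h : i = j
    · rw [if_pos h, h, Nat.add_comm, Nat.beq_refl, cond_true, K.val_one]
    · have h1 : (i : ℕ) ≠ j := fun h2 => h (Fin.ext h2)
      rw [if_neg h, beq_false (by omega), cond_false, K.val_zero]
  · have hi := i.2
    have hj := j.2
    rw [finSumFinEquiv_apply_right, finSumFinEquiv_apply_right, Fin.val_natAdd, Fin.val_natAdd, beq_false (by omega),
      beq_false (by omega), cond_false, cond_false, K.val_zero]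
    rfl

/-- The model of `Sp (2 m)`. -/
noncomputable def mSp (m : ℕ) : Mdl (Matrix.symplecticGroup (Fin m) F) :=
  K.mdl finSumFinEquiv (Submonoid.subtype _) Subtype.val_injective
    (fun a _ => Nat.beq (K.mmul (m + m) (K.mmul (m + m) a (K.mJ m)) (K.mtr (m + m) a)) (K.mJ m)) fun a _ h => by
      refine ⟨⟨K.toM finSumFinEquiv a, ?_⟩, rfl⟩
      show K.toM finSumFinEquiv a * Matrix.J (Fin m) F * (K.toM finSumFinEquiv a)ᵀ = Matrix.J (Fin m) F
      rw [← toM_mJ, ← toM_mtr, ← toM_mmul, ← toM_mmul, beq_eq h]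

end RM

end Cfsg.Agent.FS.Real
end

-- part: FS/Real/PermM
section
set_option linter.all false
open scoped Cfsg.Agent.FastGrp

/-!
# Permutation models (helper83, project FS, part C)
-/

set_option autoImplicit false

namespace Cfsg.Agent.FS.Real

/-- composition of packed maps -/
noncomputable def pmul (w n a b : ℕ) : ℕ := force a fun a => force b fun b => pack w n fun k => get w a (get w b k)

/-- the identity -/
noncomputable def pone (w n : ℕ) : ℕ := pack w n fun k => k % 2 ^ w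

/-- inequality -/
noncomputable def pne (w n a b : ℕ) : Bool :=
  force a fun a => force b fun b => anyB n fun k => !Nat.beq (get w a k) (get w b k)

theorem get_pmul {w n k : ℕ} (a b : ℕ) (hk : k < n) : get w (pmul w n a b) k = get w a (get w b k) := by
  unfold pmul
  rw [force_eq, force_eq, get_pack (fun _ => get_lt _ _ _) _ hk]

theorem get_pone {w n k : ℕ} (hn : n ≤ 2 ^ w) (hk : k < n) : get w (pone w n) k = k := by
  unfold pone
  rw [get_pack (fun _ => Nat.mod_lt _ (Nat.two_pow_pos _)) _ hk, Nat.mod_eq_of_lt (hk.trans_le hn)]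

/-- The model of a group of permutations of `ι`, the points being numbered by `idx`. -/
noncomputable def pmdl {ι : Type} (w n : ℕ) (hn : n ≤ 2 ^ w) (idx : ι → ℕ) (hlt : ∀ p, idx p < n)
    (hinj : Function.Injective idx) (hsurj : ∀ k, k < n → ∃ p, idx p = k) {G : Type} [Group G]
    (φ : G →* Equiv.Perm ι) (hφ : Function.Injective φ) (ok : ℕ → ℕ → Bool)
    (hok : ∀ a v, ok a v = true → ∃ g, ∀ p, idx (φ g p) = get w a (idx p)) : Mdl G where
  R c g := ∀ p, idx (φ g p) = get w c (idx p)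
  mul := pmul w n
  one := pone w n
  eqv := Nat.beq
  neq := pne w n
  ok := ok
  R_one := fun p => by
    rw [map_one, get_pone hn (hlt p)]
    rfl
  R_mul := by
    intro a b g h ha hb p
    rw [map_mul, Equiv.Perm.mul_apply, ha, hb, get_pmul _ _ (hlt p)]
  eq_of := by
    intro a b g h ha hb he
    refine hφ (Equiv.ext fun p => hinj ?_)
    rw [ha, hb, beq_eq he]
  ne_of := by
    intro a b g h ha hb he hgh
    unfold pne at he
    rw [force_eq, force_eq] at he
    obtain ⟨k, hk, h1⟩ := anyB_spec he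
    obtain ⟨p, rfl⟩ := hsurj k hk
    exact nbeq_ne h1 (by rw [← ha, ← hb, hgh])
  ex_of := fun h => hok _ _ h

/-- check: a permutation -/
noncomputable def pok (w n a : ℕ) : Bool :=
  force a fun a => allB n fun k => Nat.blt (get w a k) n && allB k fun j => !Nat.beq (get w a j) (get w a k)

theorem exists_perm {w n a : ℕ} (h : pok w n a = true) :
    ∃ g : Equiv.Perm (Fin n), ∀ p, ((g p : Fin n) : ℕ) = get w a p := by
  unfold pok at h
  rw [force_eq] at h
  have h1 : ∀ k, k < n → get w a k < n ∧ ∀ j, j < k → get w a j ≠ get w a k := by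
    intro k hk
    have h2 := allB_spec h hk
    rw [Bool.and_eq_true] at h2
    exact ⟨blt_lt h2.1, fun j hj => nbeq_ne (allB_spec h2.2 hj)⟩
  let f : Fin n → Fin n := fun p => ⟨get w a p, (h1 p p.2).1⟩
  have hf : Function.Injective f := by
    intro p q hpq
    have h2 : get w a p = get w a q := congrArg Fin.val hpq
    rcases lt_trichotomy (p : ℕ) q with h3 | h3 | h3
    · exact absurd h2 ((h1 q q.2).2 p h3)
    · exact Fin.ext h3
    · exact absurd h2.symm ((h1 p p.2).2 q h3)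
  exact ⟨Equiv.ofBijective f (Finite.injective_iff_bijective.1 hf), fun _ => rfl⟩

/-- The model of the symmetric group. -/
noncomputable def mSym (w n : ℕ) (hn : n ≤ 2 ^ w) : Mdl (Equiv.Perm (Fin n)) :=
  pmdl w n hn Fin.val (fun p => p.2) Fin.val_injective (fun k hk => ⟨⟨k, hk⟩, rfl⟩) (MonoidHom.id _)
    Function.injective_id (fun a _ => pok w n a) fun _ _ h => exists_perm h

/-- The model of the alternating group; the witness writes the element as a product of two squares. -/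
noncomputable def mAlt (w n : ℕ) (hn : n ≤ 2 ^ w) : Mdl (alternatingGroup (Fin n)) :=
  pmdl w n hn Fin.val (fun p => p.2) Fin.val_injective (fun k hk => ⟨⟨k, hk⟩, rfl⟩) (Subgroup.subtype _)
    Subtype.val_injective (fun a v => force (get (w * n) v 0) fun b => force (get (w * n) v 1) fun c =>
      pok w n b && pok w n c && Nat.beq a (pmul w n (pmul w n b b) (pmul w n c c))) fun a v h => by
      rw [force_eq, force_eq, Bool.and_eq_true, Bool.and_eq_true] at h
      obtain ⟨b, hb⟩ := exists_perm h.1.1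
      obtain ⟨c, hc⟩ := exists_perm h.1.2
      refine ⟨⟨b * b * (c * c), ?_⟩, fun p => ?_⟩
      · rw [Equiv.Perm.mem_alternatingGroup, map_mul, map_mul, map_mul, Int.units_mul_self, Int.units_mul_self,
          one_mul]
      · have h1 := (mSym w n hn).R_mul ((mSym w n hn).R_mul (g := b) (h := b) hb hb)
          ((mSym w n hn).R_mul (g := c) (h := c) hc hc) p
        rw [beq_eq h.2]
        exact h1

theorem card_A10 : Nat.card (alternatingGroup (Fin 10)) = 1814400 := by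
  rw [nat_card_alternatingGroup, Nat.card_fin]
  rfl

/-- The centralizer in `A₁₀` of an involution with at most two fixed points. -/
theorem cent_A10 {t : alternatingGroup (Fin 10)} (h2 : t * t = 1)
    (h : ∀ p : Fin 10, (p : ℕ) < 8 → (t : Equiv.Perm (Fin 10)) p ≠ p) :
    ¬ 9 ∣ Nat.card (Subgroup.centralizer {t} : Subgroup (alternatingGroup (Fin 10))) := by
  intro h9
  have : Fact (Nat.Prime 2) := ⟨Nat.prime_two⟩
  have h1 : Nat.card (Subgroup.centralizer {t} : Subgroup (alternatingGroup (Fin 10))) ∣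
      Nat.card (Subgroup.centralizer {(t : Equiv.Perm (Fin 10))} : Subgroup (Equiv.Perm (Fin 10))) := by
    rw [← Subgroup.card_map_of_injective (f := (alternatingGroup (Fin 10)).subtype) Subtype.val_injective]
    refine Subgroup.card_dvd_of_le ?_
    rintro _ ⟨g, hg, rfl⟩
    rw [SetLike.mem_coe, Subgroup.mem_centralizer_singleton_iff] at hg
    exact Subgroup.mem_centralizer_singleton_iff.2 (congrArg Subtype.val hg)
  have h3 : (t : Equiv.Perm (Fin 10)) ^ 2 = 1 := by
    rw [pow_two]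
    exact congrArg Subtype.val h2
  have h4 := Equiv.Perm.cycleType_of_pow_prime_eq_one h3
  have h5 := (t : Equiv.Perm (Fin 10)).sum_cycleType
  have h6 : 8 ≤ (t : Equiv.Perm (Fin 10)).support.card := by
    have h7 : (Finset.univ.filter fun p : Fin 10 => (p : ℕ) < 8) ⊆ (t : Equiv.Perm (Fin 10)).support :=
      fun p hp => Equiv.Perm.mem_support.2 (h p (Finset.mem_filter.1 hp).2)
    exact (show 8 ≤ (Finset.univ.filter fun p : Fin 10 => (p : ℕ) < 8).card by decide).trans (Finset.card_le_card h7)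
  have h7 : (t : Equiv.Perm (Fin 10)).support.card ≤ 10 := by
    have := Finset.card_le_univ (t : Equiv.Perm (Fin 10)).support
    rwa [Fintype.card_fin] at this
  have h8 := h9.trans h1
  rw [Equiv.Perm.nat_card_centralizer, h4] at h8
  rw [h4, Multiset.sum_replicate, smul_eq_mul] at h5
  generalize (t : Equiv.Perm (Fin 10)).cycleType.card = k at h5 h8
  have h10 : k = 4 ∨ k = 5 := by omega
  rcases h10 with rfl | rfl <;> revert h8 <;> decide

end Cfsg.Agent.FS.Real
end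

-- part: FS/Real/Math
section
set_option linter.all false
open scoped Cfsg.Agent.FastGrp

/-!
# Models of the Mathieu groups (helper83, project FS, part C)
-/

set_option autoImplicit false

namespace Cfsg.Agent.FS.Real

open Cfsg Cfsg.Agent.SporadicA.GolayBase Cfsg.Agent.SporadicA.GolayPerm
open scoped Pointwise

/-- The model of a subgroup of `M₂₄`. -/
noncomputable def mGol (H : Subgroup (Equiv.Perm GolayPt)) (ok : ℕ → Bool)
    (hok : ∀ (a : ℕ) (ha : isPerm a = true), permOf a ha ∈ M24 → ok a = true → permOf a ha ∈ H) : Mdl H :=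
  pmdl 5 24 (by norm_num) idx idx_lt idx_injective (fun k hk => ⟨pt k, idx_pt hk⟩) H.subtype Subtype.val_injective
    (fun a _ => force a fun a => isPerm a && isAut a && ok a) fun a _ h => by
      rw [force_eq, Bool.and_eq_true, Bool.and_eq_true] at h
      exact ⟨⟨permOf a h.1.1, hok a h.1.1 (permOf_mem_M24 h.1.1 h.1.2) h.2⟩, fun p => idx_permOf h.1.1 p⟩

theorem permOf_fix {a : ℕ} (ha : isPerm a = true) {p : GolayPt} (h : Nat.beq (papp a (idx p)) (idx p) = true) :
    permOf a ha ∈ MulAction.stabilizer (Equiv.Perm GolayPt) p :=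
  idx_injective ((idx_permOf ha p).trans (beq_eq h))

/-- `M₂₃` -/
noncomputable def mM23 : Mdl Spor.M23 :=
  mGol _ (fun a => Nat.beq (papp a 23) 23) fun _ ha h1 h2 => ⟨h1, permOf_fix ha h2⟩

/-- `M₂₂` -/
noncomputable def mM22 : Mdl Spor.M22 :=
  mGol _ (fun a => Nat.beq (papp a 23) 23 && Nat.beq (papp a 0) 0) fun _ ha h1 h2 => by
    rw [Bool.and_eq_true] at h2
    exact ⟨⟨h1, permOf_fix ha h2.1⟩, permOf_fix ha h2.2⟩

theorem squareDodecad_eq_fin : Spor.squareDodecad = fin 340831 := by decide +kernel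

/-- `M₁₂` -/
noncomputable def mM12 : Mdl Spor.M12 :=
  mGol _ (fun a => Nat.beq (pimg a 340831) 340831) fun a ha h1 h2 => by
    refine ⟨h1, ?_⟩
    show permOf a ha ∈ MulAction.stabilizer (Equiv.Perm GolayPt) Spor.squareDodecad
    rw [MulAction.mem_stabilizer_iff, squareDodecad_eq_fin, smul_fin, beq_eq h2]

end Cfsg.Agent.FS.Real
end
end
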