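import Cfsg.Agent.FS.Real.Math
import Cfsg.Agent.Prune
set_option linter.all false
prune_inst 0x7f00000000000000000000000000000000000000000000000000000000000000000000000000000000000000000000000000000000000000000000000000000000000000000000000000000000000000003fffffffffffffffffffffffffffbeffbdffffffff
open scoped Cfsg.Agent.FastGrp

/-!
# A faster evaluation of `PcD.ok`
-/

set_option autoImplicit false

namespace Cfsg.Agent.FS.Real.PcF

noncomputable def frc {α : Type} (x : ℕ) (f : ℕ → α) : α := Nat.rec (f 0) (fun m _ => f (Nat.succ m)) x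

theorem frc_eq {α : Type} (x : ℕ) (f : ℕ → α) : frc x f = f x := by cases x <;> rfl

noncomputable def al (N : ℕ) (p : ℕ → Bool) : Bool := Nat.rec true (fun k r => Bool.rec false r (p k)) N

theorem al_eq : al = allB := by
  funext N p
  induction N with
  | zero => rfl
  | succ N ih =>
    show Bool.rec false (al N p) (p N) = (p N && allB N p)
    rw [ih]
    cases p N <;> rfl

/-- a row of a table -/
def row (T W i : ℕ) : ℕ := Nat.mod (Nat.shiftRight T (Nat.mul W i)) (Nat.pow 2 W)

/-- an entry of a table -/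
noncomputable def lk (n N W M T i a : ℕ) : ℕ :=
  Bool.rec (Nat.land (Nat.shiftRight (row T W i) (Nat.mul n a)) M) (get n T (2 ^ n * i + a)) (Nat.ble N a)

theorem lk_eq (n T : ℕ) : lk n (2 ^ n) (n * 2 ^ n) (2 ^ n - 1) T = fun i a => get n T (2 ^ n * i + a) := by
  funext i a
  unfold lk
  cases h : Nat.ble (2 ^ n) a
  · have ha : a < 2 ^ n := Nat.lt_of_not_le fun h' => by rw [Nat.ble_eq_true_of_le h'] at h; cases h
    show ((T >>> (n * 2 ^ n * i)) % 2 ^ (n * 2 ^ n)) >>> (n * a) &&& (2 ^ n - 1) = (T >>> (n * (2 ^ n * i + a))) % 2 ^ n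
    refine Nat.eq_of_testBit_eq fun j => ?_
    rw [Nat.testBit_and, Nat.testBit_shiftRight, Nat.testBit_mod_two_pow, Nat.testBit_shiftRight,
      Nat.testBit_two_pow_sub_one, Nat.testBit_mod_two_pow, Nat.testBit_shiftRight, Nat.mul_add, Nat.mul_assoc,
      Nat.add_assoc]
    by_cases hj : j < n
    · have h1 : n * a + j < n * 2 ^ n := (Nat.add_lt_add_left hj _).trans_le (Nat.mul_le_mul_left n ha)
      rw [decide_eq_true hj, decide_eq_true h1, Bool.and_true]
    · rw [decide_eq_false hj, Bool.and_false, Bool.false_and]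
  · rfl

/-- the letters, the last one first -/
noncomputable def bits (b n : ℕ) : List ℕ :=
  Nat.rec [] (fun k r => Bool.rec r (k :: r) (Nat.beq (Nat.mod (Nat.shiftRight b k) 2) 1)) n

noncomputable def mul (n : ℕ) (R : ℕ → ℕ → ℕ) (a b : ℕ) : ℕ := List.rec a (fun k _ r => R k r) (bits b n)

noncomputable def div (n : ℕ) (L : ℕ → ℕ → ℕ) (a b : ℕ) : ℕ :=
  List.rec (motive := fun _ => ℕ → ℕ) (fun a => a) (fun k _ r a => r (L k a)) (bits b n) a

theorem bits_succ (b k : ℕ) : bits b (k + 1) = Bool.rec (bits b k) (k :: bits b k) (tb b k) := rfl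

theorem mul_eq (D : PcD) (a b : ℕ) : ∀ k, mul k D.R a b = D.mulA a b k
  | 0 => rfl
  | k + 1 => by
    rw [PcD.mulA_succ, ← mul_eq D a b k, mul, bits_succ]
    cases tb b k <;> rfl

theorem div_eq (D : PcD) (b : ℕ) : ∀ k a, div k D.L a b = D.divA b k a
  | 0, _ => rfl
  | k + 1, a => by
    rw [PcD.divA_succ, ← div_eq D b k, ← div_eq D b k, div, bits_succ]
    cases tb b k <;> rfl

noncomputable def nxt (n : ℕ) (R L : ℕ → ℕ → ℕ) (nx : ℕ → ℕ) (a : ℕ) : ℕ :=
  Bool.rec (Bool.rec (mul n R a a) a (Nat.beq (nx a) 15)) (div n L (L (nx a) (mul n R (Nat.pow 2 (nx a)) a)) a)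
    (Nat.blt (nx a) n)

theorem nxt_eq (D : PcD) : nxt D.n D.R D.L (get 4 D.nx) = D.nxt := by
  funext a
  rw [nxt, mul_eq, mul_eq, div_eq]
  delta PcD.nxt
  cases Nat.blt (get 4 D.nx a) D.n <;> cases Nat.beq (get 4 D.nx a) 15 <;> rfl

noncomputable def itr (f : ℕ → ℕ) (k : ℕ) : ℕ → ℕ := Nat.rec (fun a => a) (fun _ ih a => frc (f a) ih) k

theorem itr_eq (D : PcD) : ∀ k a, itr D.nxt k a = D.desc a k := by
  have h1 : ∀ k a, itr D.nxt k a = D.nxt^[k] a := fun k => by
    induction k with
    | zero => exact fun _ => rfl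
    | succ k ih => exact fun a => (frc_eq _ _).trans (ih _)
  have h2 : ∀ k a, D.desc a k = D.nxt^[k] a := fun k a => by
    induction k with
    | zero => rfl
    | succ k ih => rw [Function.iterate_succ_apply', ← ih]; rfl
  exact fun k a => (h1 k a).trans (h2 k a).symm

noncomputable def an (a b : Bool) : Bool := Bool.rec false b a

theorem an_eq : an = and := by funext a b; cases a <;> rfl

noncomputable def core (n N : ℕ) (R L rel : ℕ → ℕ → ℕ) (nx : ℕ → ℕ) (zl : List ℕ) : Bool :=
  an (an (an (an (al n fun j => al (j + 1) fun i => Nat.beq (rel j i % 2 ^ (i + 1)) 0)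
    (al n fun i => al (Nat.pow 2 i) fun a => an (Nat.beq (R i a) (Nat.add a (Nat.pow 2 i)))
      (Nat.beq (R i (Nat.add a (Nat.pow 2 i))) (Nat.add a (rel i i)))))
    (al n fun k => al k fun i => al (Nat.pow 2 k) fun a =>
      Nat.beq (R i (Nat.add a (Nat.pow 2 k))) (mul n R (R i a) (rel k i))))
    (al n fun i => al N fun a => Nat.beq (R i (L i a)) a))
    (an (al N fun a => Nat.beq a 0 || frc (frc a (itr (nxt n R L nx) n)) fun d => zl.any fun z => Nat.beq z d)
      (zl.all fun z => Nat.blt z N && !Nat.beq z 0))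

theorem core_eq (D : PcD) : core D.n (2 ^ D.n) D.R D.L D.rel (get 4 D.nx) D.zl = D.ok := by
  delta core
  rw [an_eq, al_eq, nxt_eq]
  simp only [frc_eq, itr_eq, mul_eq]
  rfl

/-- the check -/
noncomputable def ok (D : PcD) : Bool :=
  PcD.rec (fun n rl rt lt nx zl => frc n fun n => frc (Nat.pow 2 n) fun N => frc (Nat.mul n N) fun W =>
    frc (Nat.sub N 1) fun M => core n N (lk n N W M rt) (lk n N W M lt) (fun j i => get n rl (n * j + i))
      (fun a => Nat.mod (Nat.shiftRight nx (Nat.mul 4 a)) 16) zl) D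

theorem ok_spec (D : PcD) (h : ok D = true) : D.Ok := by
  refine D.ok_spec ((core_eq D).symm.trans ?_)
  cases D with
  | mk n rl rt lt nx zl =>
    delta ok at h
    simp only [frc_eq] at h
    exact (congrArg₂ (fun R L => core n (2 ^ n) R L (fun j i => get n rl (n * j + i)) (get 4 nx) zl) (lk_eq n rt)
      (lk_eq n lt)).symm.trans h

end Cfsg.Agent.FS.Real.PcF
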